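import Groth.Agent.MultExtLib.HopfComm
import Groth.Agent.S7967
import Groth.Agent.S3308
import Groth.Agent.S4128
import Groth.Agent.SemiAbLib.UnipSub
import Groth.Agent.DiagRepLib.Scheme
import Groth.Agent.HomCorrLib.Bridge
import Groth.Agent.MultUnipLib.Retract
import Groth.Agent.HopfPointsLib.Scheme
import Groth.Agent.DiagHopfLib.FieldDesc
import Groth.Agent.TransporterLib.SubTop

/-!
Commutative extensions of groups of multiplicative type over a field.
-/

set_option autoImplicit false
set_option backward.isDefEq.respectTransparency false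
set_option maxHeartbeats 1000000

noncomputable section

universe u

open CategoryTheory CategoryTheory.Limits MonoidalCategory CartesianMonoidalCategory AlgebraicGeometry CoactBr WithConv
open scoped MonObj TensorProduct
open HopfRep

namespace Groth.Agent.MultExt

attribute [-instance] CategoryTheory.Hom.commGroup
attribute [local instance] CoactBr.braidedAlgSpecOf

variable {k : Type u} [Field k] [IsAlgClosed k]

/-- A unipotent group has no nontrivial homomorphisms to a group of multiplicative type. -/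
theorem eq_one_of_unipotent_multType {U : Type u} [CommRing U] [HopfAlgebra k U] (hU : HopfRep.IsUnipotent k U)
    {C : Type u} [CommRing C] [HopfAlgebra k C] [Algebra.FiniteType k C] (hC : SGA3b.IsMultType k C)
    (f : sp k U ⟶ sp k C) [IsMonHom f] : f = 1 := by
  obtain ⟨φ, rfl⟩ := DiagRep.exists_pt f
  obtain ⟨b, hb⟩ := HopfPoints.exists_bialgHom φ
  subst hb
  obtain ⟨L, _, _, N, _, ⟨E₀⟩⟩ := DiagHopf.exists_field_split hC
  obtain ⟨E⟩ := DiagHopf.exists_split_algClosure' E₀ k
  rw [← DiagRep.pt_one]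
  congr 1
  let g := Bialgebra.TensorProduct.lid k C
  have hn : ∀ n, (b : C →ₐ[k] U) (g (E.e n)) = algebraMap k U (Coalgebra.counit (R := k) (g (E.e n))) := by
    intro n
    have hg : IsGroupLikeElem k (g (E.e n)) := (DiagHopf.groupLike_of_isGL (E.gl n)).map g
    rw [hg.counit_eq_one, map_one]
    exact MultUnip.eq_one_of_groupLike (hg.map b) (UnipHopf.exhaustive_of_isUnipotent hU)
  refine AlgHom.ext fun c => ?_
  obtain ⟨z, rfl⟩ : ∃ z, g z = c := ⟨g.symm c, g.apply_symm_apply c⟩
  have hz : z ∈ Submodule.span k (Set.range E.e) := E.e.span_eq ▸ Submodule.mem_top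
  induction hz using Submodule.span_induction with
  | mem y hy => obtain ⟨n, rfl⟩ := hy; exact hn n
  | zero => simp
  | add x y _ _ hx hy => simp only [map_add, hx, hy]
  | smul a x _ hx => simp only [map_smul, hx]

/-- The same for a group of multiplicative type given as a scheme. -/
theorem eq_one_of_unipotent_isMultTypeFT {U : Type u} [CommRing U] [HopfAlgebra k U] (hU : HopfRep.IsUnipotent k U)
    {K : Over (Spec (CommRingCat.of k))} [GrpObj K] (hK : SGA3x.IsMultTypeFT K) (f : sp k U ⟶ K) [IsMonHom f] :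
    f = 1 := by
  haveI := MultEq.isAffineHom_of_isMultTypeFT hK
  haveI := MultEq.lfp_of_isMultTypeFT hK
  haveI : IsAffine K.left := isAffine_of_isAffineHom K.hom
  obtain ⟨C, _, _, v, hv, hv'⟩ := HomCorr.exists_hopf K
  haveI := hv
  haveI := hv'
  haveI : Algebra.FiniteType k C := by
    haveI : IsIso v.hom.left := (Over.forget _).map_isIso v.hom
    haveI : LocallyOfFiniteType (sp k C).hom := by rw [← Over.w v.hom]; infer_instance
    have h : (algebraMap k C).FiniteType :=
      (HasRingHomProperty.Spec_iff (P := @LocallyOfFiniteType) (φ := CommRingCat.ofHom (algebraMap k C))).1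
        (inferInstance : LocallyOfFiniteType (sp k C).hom)
    exact RingHom.finiteType_algebraMap.1 h
  have hC := HomCorr.isMultType_of_locally v.hom (Transporter.locally_of_isMultTypeFT hK)
  have h := eq_one_of_unipotent_multType hU hC (f ≫ v.inv)
  rw [← cancel_mono v.inv, h, MonObj.one_comp]

/-- Over an algebraically closed field a commutative extension of groups of multiplicative type is of multiplicative
type. -/
theorem isMultTypeFT_of_ext_algClosed (E : Over (Spec (CommRingCat.of k))) [GrpObj E] [IsCommMonObj E] [IsAffine E.left]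
    [LocallyOfFiniteType E.hom] {H K : Over (Spec (CommRingCat.of k))} [GrpObj H] [GrpObj K]
    (p : E ⟶ K) [IsMonHom p] (i : H ⟶ E) [IsMonHom i] (hker : AlgGrp.IsKernel i p)
    (hH : SGA3x.IsMultTypeFT H) (hK : SGA3x.IsMultTypeFT K) : SGA3x.IsMultTypeFT E := by
  obtain ⟨A, _, _, e, he, he', hft, hcc⟩ := MultExt.exists_hopf E
  haveI := he; haveI := he'; haveI := hft; haveI := hcc
  obtain ⟨B, _, _, ψ, J, hJ, hψ, hB, hJe, hU⟩ := (S7967.result k A).1 (S3308.result k A)
  haveI := hJ
  obtain ⟨r, hr⟩ := S4128.result k A B (SemiAbLib.isDiag_of_isDiagonalizable hB) ψ hψ J hJe hU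
  have hrs : Function.Surjective r := fun b => ⟨ψ b, DFunLike.congr_fun hr b⟩
  haveI : Algebra.FiniteType k B := Algebra.FiniteType.of_surjective (r : A →ₐ[k] B) hrs
  let q : sp k A ⟶ sp k B := pt (ψ : B →ₐ[k] A)
  let s : sp k B ⟶ sp k A := pt (r : A →ₐ[k] B)
  haveI : IsMonHom q := SekSuwa.isMonHom_specHom ψ
  haveI : IsMonHom s := SekSuwa.isMonHom_specHom r
  have hsq : s ≫ q = 𝟙 _ := by
    rw [← pt_comp, ← pt_id]
    congr 1
    exact AlgHom.ext fun b => DFunLike.congr_fun hr b
  let m : sp k (A ⧸ J) ⟶ sp k A := pt (Bialgebra.Quotient.mkBialgHom (R := k) J : A →ₐ[k] A ⧸ J)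
  haveI : IsMonHom m := SekSuwa.isMonHom_specHom (Bialgebra.Quotient.mkBialgHom (R := k) J)
  -- the unipotent part is trivial
  have hm : m = 1 := by
    haveI : IsMonHom (m ≫ e.hom ≫ p) := inferInstance
    have hp : (m ≫ e.hom) ≫ p = 1 := by
      rw [Category.assoc]; exact eq_one_of_unipotent_isMultTypeFT hU hK _
    have hone : (1 : sp k (A ⧸ J) ⟶ K) = toUnit _ ≫ η[K] := rfl
    let w : sp k (A ⧸ J) ⟶ H := hker.lift (m ≫ e.hom) (toUnit _) (hp.trans hone)
    have hw : w ≫ i = m ≫ e.hom := hker.lift_fst _ _ _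
    haveI : Mono i := ⟨fun {Z} a b h => hker.hom_ext h (toUnit_unique _ _)⟩
    haveI : IsMonHom w :=
      { one_hom := by rw [← cancel_mono i, Category.assoc, hw, IsMonHom.one_hom (f := m ≫ e.hom), IsMonHom.one_hom (f := i)]
        mul_hom := by
          rw [← cancel_mono i, Category.assoc, Category.assoc, hw, IsMonHom.mul_hom (f := m ≫ e.hom),
            IsMonHom.mul_hom (f := i), MonoidalCategory.tensorHom_comp_tensorHom_assoc, hw] }
    rw [← cancel_mono e.hom, ← hw, eq_one_of_unipotent_isMultTypeFT hU hH w, MonObj.one_comp, MonObj.one_comp]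
  letI : CommGroup (sp k A ⟶ sp k A) := by
    haveI : IsCommMonObj (sp k A) := ⟨by
      rw [← cancel_mono e.hom, Category.assoc, IsMonHom.mul_hom, ← BraidedCategory.braiding_naturality_assoc,
        IsCommMonObj.mul_comm]⟩
    exact Hom.commGroup
  let d := 𝟙 (sp k A) * (q ≫ s)⁻¹
  have hd : d ≫ q = 1 := by
    rw [MonObj.mul_comp, GrpObj.inv_comp, Category.assoc, hsq, Category.comp_id, Category.id_comp, mul_inv_cancel]
  obtain ⟨χ, hχ⟩ := DiagRep.exists_pt d
  have hqχ : pt (χ.comp (ψ : B →ₐ[k] A)) = pt ((Algebra.ofId k A).comp (Bialgebra.counitAlgHom k B)) := by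
    rw [pt_comp, ← hχ, DiagRep.pt_one]
    exact hd
  have hJk : J ≤ RingHom.ker χ := by
    rw [hJe, Ideal.map_le_iff_le_comap]
    intro b hb
    show χ (ψ b) = 0
    refine (DFunLike.congr_fun (pt_injective hqχ) b).trans ?_
    show algebraMap k A (Bialgebra.counitAlgHom k B b) = 0
    rw [show Bialgebra.counitAlgHom k B b = 0 from hb, map_zero]
  have hd1 : d = 1 := by
    rw [hχ, show χ = (Ideal.Quotient.liftₐ J χ hJk).comp (Bialgebra.Quotient.mkBialgHom (R := k) J : A →ₐ[k] A ⧸ J)
      from AlgHom.ext fun a => rfl, pt_comp]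
    show _ ≫ m = 1
    rw [hm, MonObj.comp_one]
  haveI : IsIso q := ⟨s, (mul_inv_eq_one.1 hd1).symm, hsq⟩
  obtain ⟨M, _, hM, ⟨G⟩⟩ := MultExt.exists_glBasis hB
  obtain ⟨u, hu, hu'⟩ := TorusField.exists_iso_of_basis (DiagRep.monoidAlgebraBasis k M) G
  obtain ⟨w, hw, hw'⟩ := TorusField.exists_DS_iso k M
  haveI : IsMonHom (e.symm ≪≫ asIso q ≪≫ u ≪≫ w).hom := by
    dsimp only [Iso.trans_hom, Iso.symm_hom, asIso_hom]
    infer_instance
  exact MultExt.isMultTypeFT_of_iso _ hM (e.symm ≪≫ asIso q ≪≫ u ≪≫ w)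

end Groth.Agent.MultExt
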