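import Groth.Agent.MultExtLib.Main
import Groth.Agent.TrivLocusLib.Global
import Groth.Agent.CentLocusLib.Global
import Groth.Agent.MonoQuotLib.Cov
import Groth.Agent.SubDescLib.Main
import Groth.Agent.TransporterLib.Comm

/-!
Pairings of a group of multiplicative type with a scheme with connected fibres are trivial; centrality of preimages.
-/

set_option autoImplicit false
set_option backward.isDefEq.respectTransparency false
set_option maxHeartbeats 1000000

noncomputable section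

universe u

open CategoryTheory CategoryTheory.Limits MonoidalCategory CartesianMonoidalCategory AlgebraicGeometry
open scoped MonObj

namespace Groth.Agent.MultExt

attribute [-instance] CategoryTheory.Hom.commGroup

variable {S : Scheme.{u}}

/-- A pairing of a group of multiplicative type with a scheme with connected fibres, trivial along a section, is
trivial. -/
theorem pairing_eq_one' {A Z T : Over S} [GrpObj A] [GrpObj Z] [LocallyOfFiniteType Z.hom] [IsSeparated Z.hom]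
    (hA : SGA3x.IsMultTypeFT A) (b : A ⊗ T ⟶ Z)
    (hmul : ∀ (Y : Over S) (a a' : Y ⟶ A) (t : Y ⟶ T),
      lift (a * a') t ≫ b = (lift a t ≫ b) * (lift a' t ≫ b))
    (e : 𝟙_ (Over S) ⟶ T) (he : ∀ (Y : Over S) (a : Y ⟶ A), lift a (toUnit Y ≫ e) ≫ b = 1)
    (hconn : ∀ s : S, _root_.IsConnected (T.hom.base ⁻¹' {s}) ∨
      ∀ (Y : Over S) (l : Y.left ⟶ Spec (S.residueField s)), l ≫ S.fromSpecResidueField s = Y.hom → 
        ∀ (a : Y ⟶ A) (t : Y ⟶ T), lift a t ≫ b = 1) : b = 1 := by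
  let π := T.hom
  let str : ∀ X : Over T.left, (Over.map π).obj X ⟶ T := fun X => Over.homMk X.hom rfl
  let e₀ : (Over.map π).obj (Red.bc π A) ⟶ A ⊗ T := lift (PowEtCentralLib.inc π A) (str _)
  let u : Red.bc π A ⟶ Red.bc π Z := PowEtCentralLib.adjEquiv (G := Z) π _ (e₀ ≫ b)
  -- the values on points
  have key : ∀ (X : Over T.left) (a : (Over.map π).obj X ⟶ A),
      (Over.map π).map (PowEtCentralLib.adjEquiv (G := A) π X a) ≫ e₀ = lift a (str X) := by
    intro X a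
    rw [comp_lift]
    congr 1
    · have h1 := ((Over.mapPullbackAdj π).homEquiv X A).symm_apply_apply a
      rw [Adjunction.homEquiv_counit] at h1
      exact h1
    · exact Over.OverMorphism.ext (Over.w (PowEtCentralLib.adjEquiv (G := A) π X a))
  have hu : ∀ (X : Over T.left) (a : (Over.map π).obj X ⟶ A),
      PowEtCentralLib.adjEquiv (G := A) π X a ≫ u = PowEtCentralLib.adjEquiv (G := Z) π X (lift a (str X) ≫ b) := by
    intro X a
    show _ ≫ (Over.mapPullbackAdj π).homEquiv _ Z (e₀ ≫ b) = _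
    rw [← Adjunction.homEquiv_naturality_left, ← Category.assoc, key]
    rfl
  haveI : IsMonHom u := by
    have hu1 : ∀ (X : Over T.left) (a a' : X ⟶ Red.bc π A), (a * a') ≫ u = (a ≫ u) * (a' ≫ u) := by
      intro X a a'
      obtain ⟨a, rfl⟩ := (PowEtCentralLib.adjEquiv (G := A) π X).surjective a
      obtain ⟨a', rfl⟩ := (PowEtCentralLib.adjEquiv (G := A) π X).surjective a'
      rw [← map_mul, hu, hu, hu, hmul, map_mul]
    constructor
    · have h := hu1 (𝟙_ _) 1 1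
      rw [_root_.mul_one] at h
      have h1 := (mul_eq_left.1 h.symm)
      rwa [MonObj.one_eq_one, MonObj.one_eq_one]
    · rw [MonObj.mul_eq_mul, hu1, MonObj.mul_eq_mul, MonObj.comp_mul, tensorHom_fst, tensorHom_snd]
  haveI : IsSeparated (Red.bc π Z).hom := inferInstanceAs (IsSeparated (pullback.snd Z.hom π))
  haveI : LocallyOfFiniteType (Red.bc π Z).hom := inferInstanceAs (LocallyOfFiniteType (pullback.snd Z.hom π))
  obtain ⟨O, hOc, hO, hOtriv⟩ := TrivLocus.exists_locus (u := u) (DescHom.isMultTypeFT_bc hA π)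
    TrivLocus.eqFinPres_of_lft
  -- the section lies in the locus
  have he' : e.left ≫ T.hom = 𝟙 S := Over.w e
  have htriv : TrivLocus.Triv u e.left := by
    intro Y q hq y
    obtain ⟨a, rfl⟩ := (PowEtCentralLib.adjEquiv (G := A) π Y).surjective y
    rw [hu]
    have hq' : q = ((Over.map π).obj Y).hom := by
      show q = Y.hom ≫ π
      rw [← hq, Category.assoc, he']
      exact (Category.comp_id q).symm
    have hstr : str Y = toUnit _ ≫ e := Over.OverMorphism.ext (by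
      show Y.hom = (toUnit ((Over.map π).obj Y)).left ≫ e.left
      rw [show (toUnit ((Over.map π).obj Y)).left = ((Over.map π).obj Y).hom from
        (Category.comp_id _).symm.trans (Over.w (toUnit ((Over.map π).obj Y))), ← hq', hq])
    rw [hstr, he, map_one]
  have htop : O = ⊤ := by
    refine eq_top_iff.2 fun t _ => ?_
    let s : S := T.hom.base t
    let κ : Spec (S.residueField s) ⟶ T.left := S.fromSpecResidueField s ≫ e.left
    have hes : κ (IsLocalRing.closedPoint (S.residueField s)) = e.left.base s := by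
      rw [Scheme.Hom.comp_apply]
      congr 1
      exact Scheme.fromSpecResidueField_apply _ _
    have hsO : e.left.base s ∈ O := by
      rw [hO, ← hes]
      exact (TrivLocus.triv_field_iff (u := u) κ).1 (htriv.comp _)
    have hOO : IsClopen (O : Set T.left) := ⟨hOc, O.isOpen⟩
    rcases hconn s with hc | htr
    · refine hc.isPreconnected.subset_isClopen hOO ⟨e.left.base s, ?_, hsO⟩ rfl
      show T.hom.base (e.left.base s) = s
      rw [← Scheme.Hom.comp_apply, he']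
      rfl
    · rw [hO]
      intro Y q hq y
      obtain ⟨a, rfl⟩ := (PowEtCentralLib.adjEquiv (G := A) π Y).surjective y
      rw [hu, htr _ (q ≫ Spec.map (T.hom.residueFieldMap t)) ?_ a (str Y), map_one]
      show (q ≫ Spec.map (T.hom.residueFieldMap t)) ≫ S.fromSpecResidueField (T.hom.base t) = Y.hom ≫ T.hom
      rw [Category.assoc, Scheme.Hom.SpecMap_residueFieldMap_fromSpecResidueField, reassoc_of% hq]
  have h0 : e₀ ≫ b = 1 := by
    apply (PowEtCentralLib.adjEquiv (G := Z) π _).injective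
    rw [map_one]
    show u = 1
    let Y := Red.bc π A
    have h := hOtriv Y ((T.left.topIso.inv ≫ T.left.homOfLE htop.ge |> fun g => Y.hom ≫ g)) (by
      rw [Category.assoc, Category.assoc, Scheme.homOfLE_ι]
      exact (congrArg (Y.hom ≫ ·) (T.left.topIso_hom ▸ T.left.topIso.inv_hom_id)).trans (Category.comp_id _)) (𝟙 Y)
    rwa [Category.id_comp] at h
  haveI : IsIso e₀ := by
    haveI : IsIso ((Over.forget S).map e₀) := by
      have h : (Over.forget S).map e₀ = 𝟙 (pullback A.hom T.hom) := by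
        show e₀.left = 𝟙 _
        refine pullback.hom_ext ?_ ?_
        · rw [Category.id_comp]
          show e₀.left ≫ (fst A T).left = _
          rw [← Over.comp_left, lift_fst, PowEtCentralLib.inc_left]
        · rw [Category.id_comp]
          show e₀.left ≫ (snd A T).left = _
          rw [← Over.comp_left, lift_snd]
          rfl
      rw [h]; exact IsIso.id _
    exact isIso_of_reflects_iso e₀ (Over.forget S)
  rwa [← MonObj.comp_one e₀, cancel_epi] at h0

/-- A pairing of a group of multiplicative type with a scheme with connected fibres, trivial along a section, is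
trivial. -/
theorem pairing_eq_one {A Z T : Over S} [GrpObj A] [GrpObj Z] [LocallyOfFiniteType Z.hom] [IsSeparated Z.hom]
    (hA : SGA3x.IsMultTypeFT A) (b : A ⊗ T ⟶ Z)
    (hmul : ∀ (Y : Over S) (a a' : Y ⟶ A) (t : Y ⟶ T),
      lift (a * a') t ≫ b = (lift a t ≫ b) * (lift a' t ≫ b))
    (e : 𝟙_ (Over S) ⟶ T) (he : ∀ (Y : Over S) (a : Y ⟶ A), lift a (toUnit Y ≫ e) ≫ b = 1)
    (hconn : ∀ s : S, _root_.IsConnected (T.hom.base ⁻¹' {s})) : b = 1 :=
  pairing_eq_one' hA b hmul e he fun s => Or.inl (hconn s)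

/-- The fibres stay connected after base change. -/
theorem isConnected_bc {S' : Scheme.{u}} (f : S' ⟶ S) (G : Over S) [GrpObj G] [LocallyOfFiniteType G.hom]
    (hconn : ∀ s : S, _root_.IsConnected (G.hom.base ⁻¹' {s})) (s' : S') :
    _root_.IsConnected ((Red.bc f G).hom.base ⁻¹' {s'}) := by
  have hc : ∀ t : S, ConnectedSpace ↥(pullback G.hom (S.fromSpecResidueField t)) := fun t => by
    haveI : ConnectedSpace ↥(G.hom.base ⁻¹' {t}) := isConnected_iff_connectedSpace.1 (hconn t)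
    exact (G.hom.fiberHomeo t).symm.surjective.connectedSpace (G.hom.fiberHomeo t).symm.continuous
  haveI : ConnectedSpace (Red.bc (S'.fromSpecResidueField s' ≫ f) G).left :=
    CentLocus.connectedSpace_geom hc (K := S'.residueField s') (S'.fromSpecResidueField s' ≫ f)
  let η' : ↥(pullback (Red.bc f G).hom (S'.fromSpecResidueField s')) ≃ₜ
      ↥(Red.bc (S'.fromSpecResidueField s' ≫ f) G).left :=
    Scheme.homeoOfIso (pullbackLeftPullbackSndIso G.hom f (S'.fromSpecResidueField s'))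
  haveI : ConnectedSpace ↥(pullback (Red.bc f G).hom (S'.fromSpecResidueField s')) :=
    η'.symm.surjective.connectedSpace η'.symm.continuous
  rw [isConnected_iff_connectedSpace]
  haveI : ConnectedSpace ↥((Red.bc f G).hom.fiber s') :=
    ‹ConnectedSpace ↥(pullback (Red.bc f G).hom (S'.fromSpecResidueField s'))›
  exact ((Red.bc f G).hom.fiberHomeo s').surjective.connectedSpace ((Red.bc f G).hom.fiberHomeo s').continuous

/-- A surjective flat quasi-compact morphism is a covering. -/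
theorem isCov {X Y : Scheme.{u}} (p : X ⟶ Y) [Surjective p] [Flat p] [QuasiCompact p] : MonoQuot.IsCov p :=
  MonoQuot.isCov_of_compact p p (𝟙 X) (Category.id_comp p) fun V hV =>
    ⟨p ⁻¹ᵁ V, p.isCompact_preimage hV.isCompact, Set.image_preimage_eq _ p.surjective⟩

theorem commute_of_isMultTypeFT {H : Over S} [GrpObj H] (hH : SGA3x.IsMultTypeFT H) {X : Over S} (a b : X ⟶ H) :
    a * b = b * a :=
  Transporter.comm_of_locally_fpqc (Transporter.locally_of_isMultTypeFT hH) X a b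

/-- A normal subgroup of multiplicative type acted on through a group with connected fibres is central. -/
theorem central_of_normal' {E H U : Over S} [GrpObj E] [GrpObj H] [GrpObj U] (p : E ⟶ U) [IsMonHom p]
    (hp : MonoQuot.IsCov p.left) (i : H ⟶ E) [IsMonHom i] [Mono i] (hH : SGA3x.IsMultTypeFT H)
    (hn : ∀ (X : Over S) (h : X ⟶ H) (x : X ⟶ E), ∃ h' : X ⟶ H, h' ≫ i = x * (h ≫ i) * x⁻¹)
    (hp' : ∀ (X : Over S) (a b : X ⟶ E), a ≫ p = b ≫ p →
      ∀ h : X ⟶ H, a * (h ≫ i) * a⁻¹ = b * (h ≫ i) * b⁻¹)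
    (hU : ∀ s : S, _root_.IsConnected (U.hom.base ⁻¹' {s}) ∨
      ∀ (Y : Over S) (l : Y.left ⟶ Spec (S.residueField s)), l ≫ S.fromSpecResidueField s = Y.hom → 
        ∀ (h : Y ⟶ H) (x : Y ⟶ E), (h ≫ i) * x = x * (h ≫ i)) (X : Over S) (h : X ⟶ H) (x : X ⟶ E) :
    (h ≫ i) * x = x * (h ≫ i) := by
  haveI := MultEq.lfp_of_isMultTypeFT hH
  haveI := MultEq.isAffineHom_of_isMultTypeFT hH
  obtain ⟨c, hc⟩ := hn _ (fst H E) (snd H E)
  let c' : H ⊗ E ⟶ H := c * (fst H E)⁻¹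
  have hc' : ∀ (Y : Over S) (a : Y ⟶ H) (y : Y ⟶ E),
      lift a y ≫ c' ≫ i = y * (a ≫ i) * y⁻¹ * (a ≫ i)⁻¹ := by
    intro Y a y
    rw [MonObj.mul_comp, GrpObj.inv_comp, hc]
    simp only [MonObj.comp_mul, GrpObj.comp_inv, lift_fst_assoc, lift_snd]
  have hpl : MonoQuot.IsCov (H ◁ p).left := hp.whiskerLeft H
  obtain ⟨b, hb⟩ := hpl.exists_desc c' fun Y a₁ a₂ ha => by
    have h1 : a₁ ≫ fst H E = a₂ ≫ fst H E := by
      simpa using congrArg (· ≫ fst H U) ha
    have h2 : (a₁ ≫ snd H E) ≫ p = (a₂ ≫ snd H E) ≫ p := by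
      simpa using congrArg (· ≫ snd H U) ha
    have e1 : a₁ = lift (a₁ ≫ fst H E) (a₁ ≫ snd H E) := by ext <;> simp
    have e2 : a₂ = lift (a₂ ≫ fst H E) (a₂ ≫ snd H E) := by ext <;> simp
    rw [← cancel_mono i, Category.assoc, Category.assoc, e1, e2, hc', hc', h1, hp' Y _ _ h2]
  have hb' : ∀ (Y : Over S) (a : Y ⟶ H) (y : Y ⟶ E), lift a (y ≫ p) ≫ b ≫ i = y * (a ≫ i) * y⁻¹ * (a ≫ i)⁻¹ := by
    intro Y a y
    rw [← hc', ← hb]
    simp only [← Category.assoc, lift_whiskerLeft]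
  have hb1 : b = 1 := by
    refine pairing_eq_one' hH b (fun Y a a' t => ?_) η[U] (fun Y a => ?_) fun s => (hU s).imp id ?_
    · obtain ⟨Y', κ, y, hκ, hy⟩ := hp.exists_lift t
      haveI := hκ.epi_over
      rw [← cancel_epi κ, ← cancel_mono i]
      simp only [MonObj.comp_mul, MonObj.mul_comp, Category.assoc]
      simp only [← Category.assoc κ, comp_lift, ← hy, MonObj.comp_mul, Category.assoc]
      rw [hb', hb', hb']
      obtain ⟨a₁, ha₁⟩ := hn Y' (κ ≫ a) y
      obtain ⟨a₂, ha₂⟩ := hn Y' (κ ≫ a') y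
      have e : y * (((κ ≫ a) * (κ ≫ a')) ≫ i) * y⁻¹ = (a₁ ≫ i) * (a₂ ≫ i) := by
        rw [MonObj.mul_comp, ha₁, ha₂]; group
      rw [e, ← ha₁, ← ha₂, ← GrpObj.inv_comp _ i, ← GrpObj.inv_comp _ i, ← GrpObj.inv_comp _ i]
      simp only [← MonObj.mul_comp]
      congr 1
      have hcm : ∀ r w : Y' ⟶ H, Commute r w := fun r w => commute_of_isMultTypeFT hH r w
      rw [mul_inv_rev, (hcm (κ ≫ a')⁻¹ (κ ≫ a)⁻¹).eq]
      simp only [_root_.mul_assoc]
      congr 1
      rw [← _root_.mul_assoc, (hcm a₂ (κ ≫ a)⁻¹).eq, _root_.mul_assoc]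
    · have h1 : toUnit Y ≫ η[U] = (1 : Y ⟶ E) ≫ p := by rw [MonObj.one_comp, Hom.one_def]
      rw [← cancel_mono i, Category.assoc, h1, hb', MonObj.one_comp]
      simp
    intro htr Y l hl a t
    obtain ⟨Y', κ, y, hκ, hy⟩ := hp.exists_lift t
    haveI := hκ.epi_over
    rw [← cancel_epi κ, ← cancel_mono i, MonObj.comp_one, MonObj.one_comp, Category.assoc, Category.assoc,
      ← Category.assoc κ, comp_lift, ← hy, hb', ← htr Y' (κ.left ≫ l)
        (by rw [Category.assoc, hl, Over.w]) (κ ≫ a) y]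
    group
  have h := hb' X h x
  rw [hb1, MonObj.one_comp, MonObj.comp_one, eq_comm, mul_inv_eq_one, mul_inv_eq_iff_eq_mul] at h
  exact h.symm

theorem central_of_normal {E H U : Over S} [GrpObj E] [GrpObj H] [GrpObj U] (p : E ⟶ U) [IsMonHom p]
    (hp : MonoQuot.IsCov p.left) (i : H ⟶ E) [IsMonHom i] [Mono i] (hH : SGA3x.IsMultTypeFT H)
    (hn : ∀ (X : Over S) (h : X ⟶ H) (x : X ⟶ E), ∃ h' : X ⟶ H, h' ≫ i = x * (h ≫ i) * x⁻¹)
    (hp' : ∀ (X : Over S) (a b : X ⟶ E), a ≫ p = b ≫ p →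
      ∀ h : X ⟶ H, a * (h ≫ i) * a⁻¹ = b * (h ≫ i) * b⁻¹)
    (hU : ∀ s : S, _root_.IsConnected (U.hom.base ⁻¹' {s})) (X : Over S) (h : X ⟶ H) (x : X ⟶ E) :
    (h ≫ i) * x = x * (h ≫ i) :=
  central_of_normal' p hp i hH hn hp' (fun s => Or.inl (hU s)) X h x

/-- An extension of a group of multiplicative type with connected fibres by a central one is commutative. -/
theorem isCommMonObj_of_central' {E H K : Over S} [GrpObj E] [GrpObj H] [GrpObj K] (p : E ⟶ K) [IsMonHom p]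
    (hp : MonoQuot.IsCov p.left) (i : H ⟶ E) [IsMonHom i] (hker : AlgGrp.IsKernel i p) (hH : SGA3x.IsMultTypeFT H)
    (hK : SGA3x.IsMultTypeFT K) (hc : ∀ (X : Over S) (h : X ⟶ H) (x : X ⟶ E), (h ≫ i) * x = x * (h ≫ i))
    (hconn : ∀ s : S, _root_.IsConnected (K.hom.base ⁻¹' {s}) ∨
      ∀ (Y : Over S) (l : Y.left ⟶ Spec (S.residueField s)), l ≫ S.fromSpecResidueField s = Y.hom → 
        ∀ x y : Y ⟶ E, x * y = y * x) : IsCommMonObj E := by
  haveI : Mono i := ⟨fun {Z} a b h => hker.hom_ext h (toUnit_unique _ _)⟩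
  haveI := MultEq.lfp_of_isMultTypeFT hH
  haveI := MultEq.isAffineHom_of_isMultTypeFT hH
  let w : E ⊗ E ⟶ E := fst E E * snd E E * (fst E E)⁻¹ * (snd E E)⁻¹
  have hwp : w ≫ p = toUnit _ ≫ η[K] := by
    rw [← Hom.one_def]
    simp only [w, MonObj.mul_comp, GrpObj.inv_comp]
    rw [commute_of_isMultTypeFT hK (fst E E ≫ p) (snd E E ≫ p), mul_inv_cancel_right, mul_inv_cancel]
  let c : E ⊗ E ⟶ H := hker.lift w (toUnit _) hwp
  have hc' : ∀ (Y : Over S) (x y : Y ⟶ E), lift x y ≫ c ≫ i = x * y * x⁻¹ * y⁻¹ := by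
    intro Y x y
    rw [show c ≫ i = w from hker.lift_fst _ _ _]
    simp only [w, MonObj.comp_mul, GrpObj.comp_inv, lift_fst, lift_snd]
  obtain ⟨b, hb⟩ := hp.exists_desc_tensor hp c fun Y a₁ a₂ ha => by
    have h1 : (a₁ ≫ fst E E) ≫ p = (a₂ ≫ fst E E) ≫ p := by
      simpa using congrArg (· ≫ fst K K) ha
    have h2 : (a₁ ≫ snd E E) ≫ p = (a₂ ≫ snd E E) ≫ p := by
      simpa using congrArg (· ≫ snd K K) ha
    obtain ⟨h₁, hh₁⟩ := (MonoQuot.kernel_iff p i hker _ _ _).1 h1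
    obtain ⟨h₂, hh₂⟩ := (MonoQuot.kernel_iff p i hker _ _ _).1 h2
    have e1 : a₁ = lift (a₁ ≫ fst E E) (a₁ ≫ snd E E) := by ext <;> simp
    have e2 : a₂ = lift (a₂ ≫ fst E E) (a₂ ≫ snd E E) := by ext <;> simp
    rw [← cancel_mono i, Category.assoc, Category.assoc, e1, e2, hc', hc', ← hh₁, ← hh₂]
    have c1 : ∀ z : Y ⟶ E, Commute (h₁ ≫ i) z := fun z => hc Y h₁ z
    have c2 : ∀ z : Y ⟶ E, Commute (h₂ ≫ i) z := fun z => hc Y h₂ z
    rw [mul_inv_rev, mul_inv_rev]
    simp only [_root_.mul_assoc]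
    rw [← _root_.mul_assoc (h₁ ≫ i), (c1 (a₁ ≫ snd E E)).eq, _root_.mul_assoc (a₁ ≫ snd E E),
      ← _root_.mul_assoc (h₁ ≫ i), (c1 (h₂ ≫ i)).eq, _root_.mul_assoc (h₂ ≫ i), mul_inv_cancel_left,
      ← _root_.mul_assoc (h₂ ≫ i), (c2 ((a₁ ≫ fst E E)⁻¹)).eq, _root_.mul_assoc ((a₁ ≫ fst E E)⁻¹),
      mul_inv_cancel_left]
  have hb' : ∀ (Y : Over S) (x y : Y ⟶ E), lift (x ≫ p) (y ≫ p) ≫ b ≫ i = x * y * x⁻¹ * y⁻¹ := by
    intro Y x y
    rw [← hc', ← hb]
    simp only [← Category.assoc, lift_map]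
  have hb1 : b = 1 := by
    refine pairing_eq_one' hK b (fun Y a a' t => ?_) η[K] (fun Y a => ?_) fun s => (hconn s).imp id ?_
    · obtain ⟨Y₁, κ₁, y, hκ₁, hy⟩ := hp.exists_lift t
      obtain ⟨Y₂, κ₂, x, hκ₂, hx⟩ := hp.exists_lift (κ₁ ≫ a)
      obtain ⟨Y₃, κ₃, x', hκ₃, hx'⟩ := hp.exists_lift ((κ₂ ≫ κ₁) ≫ a')
      haveI := hκ₁.epi_over; haveI := hκ₂.epi_over; haveI := hκ₃.epi_over
      rw [← cancel_epi κ₁, ← cancel_epi κ₂, ← cancel_epi κ₃, ← cancel_mono i]
      simp only [Category.assoc, MonObj.comp_mul, MonObj.mul_comp]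
      have eL : ∀ r : Y ⟶ K, κ₃ ≫ κ₂ ≫ κ₁ ≫ lift r t ≫ b ≫ i =
          lift (κ₃ ≫ κ₂ ≫ κ₁ ≫ r) ((κ₃ ≫ κ₂ ≫ y) ≫ p) ≫ b ≫ i := by
        intro r
        rw [Category.assoc κ₃, Category.assoc κ₂, hy]
        simp only [← Category.assoc, comp_lift]
      simp only [eL, MonObj.comp_mul]
      rw [show κ₃ ≫ κ₂ ≫ κ₁ ≫ a = (κ₃ ≫ x) ≫ p by rw [Category.assoc, hx],
        show κ₃ ≫ κ₂ ≫ κ₁ ≫ a' = x' ≫ p by rw [hx']; simp only [Category.assoc], ← MonObj.mul_comp, hb', hb', hb']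
      generalize κ₃ ≫ x = u, κ₃ ≫ κ₂ ≫ y = v
      have hcent : ∀ z : Y₃ ⟶ E, Commute (x' * v * x'⁻¹ * v⁻¹) z := fun z => by
        rw [← hc']
        exact hc Y₃ (lift x' v ≫ c) z |> fun h => by rwa [Category.assoc] at h
      calc u * x' * v * (u * x')⁻¹ * v⁻¹ = u * (x' * v * x'⁻¹ * v⁻¹) * (v * u⁻¹ * v⁻¹) := by group
        _ = (x' * v * x'⁻¹ * v⁻¹) * u * (v * u⁻¹ * v⁻¹) := by rw [(hcent u).eq]
        _ = (x' * v * x'⁻¹ * v⁻¹) * (u * v * u⁻¹ * v⁻¹) := by group
        _ = (u * v * u⁻¹ * v⁻¹) * (x' * v * x'⁻¹ * v⁻¹) := (hcent _).eq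
    · obtain ⟨Y', κ, x, hκ, hx⟩ := hp.exists_lift a
      haveI := hκ.epi_over
      rw [← cancel_epi κ, ← cancel_mono i, ← Category.assoc κ, comp_lift, ← hx]
      have h1 : κ ≫ toUnit Y ≫ η[K] = (1 : Y' ⟶ E) ≫ p := by
        rw [MonObj.one_comp, Hom.one_def, ← Category.assoc, toUnit_unique (κ ≫ toUnit Y) (toUnit Y')]
      rw [h1, Category.assoc, hb', MonObj.comp_one, MonObj.one_comp]
      simp
    intro htr Y l hl a t
    obtain ⟨Y₁, κ₁, x, hκ₁, hx⟩ := hp.exists_lift a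
    obtain ⟨Y₂, κ₂, y, hκ₂, hy⟩ := hp.exists_lift (κ₁ ≫ t)
    haveI := hκ₁.epi_over; haveI := hκ₂.epi_over
    rw [← cancel_epi κ₁, ← cancel_epi κ₂, ← cancel_mono i, MonObj.comp_one, MonObj.comp_one, MonObj.one_comp,
      Category.assoc, Category.assoc, Category.assoc, ← Category.assoc κ₁, ← Category.assoc κ₂, comp_lift,
      comp_lift, ← hy, ← hx, ← Category.assoc κ₂ x, hb',
      htr Y₂ ((κ₂ ≫ κ₁).left ≫ l) (by rw [Category.assoc, hl, Over.w]) (κ₂ ≫ x) y]
    group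
  constructor
  show _ = _
  rw [MonObj.mul_eq_mul, MonObj.comp_mul]
  rw [show (β_ E E).hom ≫ fst _ _ = snd _ _ by simp, show (β_ E E).hom ≫ snd _ _ = fst _ _ by simp]
  have h := hb' _ (snd E E) (fst E E)
  rw [hb1, MonObj.one_comp, MonObj.comp_one, eq_comm, mul_inv_eq_one, mul_inv_eq_iff_eq_mul] at h
  exact h

theorem isCommMonObj_of_central {E H K : Over S} [GrpObj E] [GrpObj H] [GrpObj K] (p : E ⟶ K) [IsMonHom p]
    (hp : MonoQuot.IsCov p.left) (i : H ⟶ E) [IsMonHom i] (hker : AlgGrp.IsKernel i p) (hH : SGA3x.IsMultTypeFT H)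
    (hK : SGA3x.IsMultTypeFT K) (hc : ∀ (X : Over S) (h : X ⟶ H) (x : X ⟶ E), (h ≫ i) * x = x * (h ≫ i))
    (hconn : ∀ s : S, _root_.IsConnected (K.hom.base ⁻¹' {s})) : IsCommMonObj E :=
  isCommMonObj_of_central' p hp i hker hH hK hc fun s => Or.inl (hconn s)

end Groth.Agent.MultExt
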