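import Groth.Agent.MultExtLib.Valuation
import Groth.Agent.HomCorrLib.TorsionPts

/-!
Finiteness of the torsion of a commutative extension.
-/

set_option autoImplicit false
set_option backward.isDefEq.respectTransparency false
set_option maxHeartbeats 1000000

noncomputable section

universe u

open CategoryTheory CategoryTheory.Limits MonoidalCategory CartesianMonoidalCategory AlgebraicGeometry CoactBr WithConv
open scoped MonObj TensorProduct

namespace Groth.Agent.MultExt

attribute [-instance] CategoryTheory.Hom.commGroup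
attribute [local instance] CoactBr.braidedAlgSpecOf

variable {R : Type u} [CommRing R]

theorem pt_injective_comp {T L B : Type u} [CommRing T] [Algebra R T] [CommRing L] [Algebra R L] [CommRing B]
    [Algebra R B] (f : T →ₐ[R] L) (hf : Function.Injective f) {a b : B →ₐ[R] T} (h : pt f ≫ pt a = pt f ≫ pt b) :
    a = b := by
  rw [← pt_comp, ← pt_comp] at h
  exact AlgHom.ext fun x => hf (DFunLike.congr_fun (pt_injective h) x)

/-- The points with values in a subring form a subgroup. -/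
def ptsHom {T L : Type u} [CommRing T] [Algebra R T] [CommRing L] [Algebra R L] (f : T →ₐ[R] L)
    (G : Over (Spec (CommRingCat.of R))) [GrpObj G] : (sp R T ⟶ G) →* (sp R L ⟶ G) :=
  MonoidHom.mk' (fun w => pt f ≫ w) fun a b => by rw [MonObj.comp_mul]

variable {A C D : Type u} [CommRing A] [HopfAlgebra R A] [CommRing C] [HopfAlgebra R C] [CommRing D] [HopfAlgebra R D]

theorem commute_pts [Coalgebra.IsCocomm R A] {L : Type u} [CommRing L] [Algebra R L] (a b : sp R L ⟶ sp R A) :
    Commute a b := by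
  obtain ⟨a, rfl⟩ := DiagRep.exists_pt a
  obtain ⟨b, rfl⟩ := DiagRep.exists_pt b
  show _ * _ = _ * _
  rw [DiagRep.pt_mul_conv, DiagRep.pt_mul_conv, mul_comm]

/-- The valuative criterion for the torsion of an extension. -/
theorem torsion_valuative [Coalgebra.IsCocomm R A] (hD : SGA3b.IsMultType R D) (n : ℕ) (hn : n ≠ 0)
    (hC : Module.Finite R (C ⧸ SGA3b.torsionIdeal R C n)) (ψ : C →ₐ[R] A) (φ : A →ₐ[R] D)
    [IsMonHom (pt ψ)] [IsMonHom (pt φ)] (hker : AlgGrp.IsKernel (pt φ) (pt ψ))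
    (hflat : ψ.toRingHom.Flat) (hsurj : Function.Surjective (PrimeSpectrum.comap ψ.toRingHom))
    {L : Type u} [Field L] [Algebra R L] (V : ValuationSubring L) (hV : ∀ r, algebraMap R L r ∈ V)
    (x : A →ₐ[R] L) (hx : pt x ^ n = 1) : ∀ a, x a ∈ V := by
  haveI := hC
  haveI : Mono (pt φ) := ⟨fun {Z} a b h => hker.hom_ext h (toUnit_unique _ _)⟩
  -- the image in the quotient
  let y : C →ₐ[R] L := x.comp ψ
  have hy : y.comp (SGA3b.powConv R C n) = (Algebra.ofId R L).comp (Bialgebra.counitAlgHom R C) := by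
    refine pt_injective ?_
    rw [← HomCorr.pt_pow, DiagRep.pt_one, show pt y = pt x ≫ pt ψ from pt_comp _ _, ← MonObj.pow_comp, hx,
      MonObj.one_comp]
  have hyJ : SGA3b.torsionIdeal R C n ≤ RingHom.ker y := by
    refine Ideal.map_le_iff_le_comap.2 fun c hc => ?_
    show y (SGA3b.powConv R C n c) = 0
    refine (DFunLike.congr_fun hy c).trans ?_
    show algebraMap R L (Bialgebra.counitAlgHom R C c) = 0
    rw [show Bialgebra.counitAlgHom R C c = 0 from hc, map_zero]
  haveI : Algebra.IsIntegral R (C ⧸ SGA3b.torsionIdeal R C n) := Algebra.IsIntegral.of_finite R _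
  have hyV : ∀ c, y c ∈ V := fun c => mem_of_isIntegral V hV
    ((Algebra.IsIntegral.isIntegral (Ideal.Quotient.mkₐ R (SGA3b.torsionIdeal R C n) c)).map
      (Ideal.Quotient.liftₐ _ y hyJ))
  -- a point of the extension over it
  letI : Algebra C A := ψ.toRingHom.toAlgebra
  haveI : Module.Flat C A := hflat
  obtain ⟨L', _, jL, V', e, heV, he, hjL⟩ := exists_extension (C := C) (A := A) hsurj V y.toRingHom hyV
  letI : Algebra R L' := (jL.comp (algebraMap R L)).toAlgebra
  let jA : L →ₐ[R] L' := { jL with commutes' := fun r => rfl }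
  let eA : A →ₐ[R] L' :=
    { e with
      commutes' := fun r => by
        show e (algebraMap R A r) = jL (algebraMap R L r)
        rw [← ψ.commutes r, ← y.commutes r]
        exact RingHom.congr_fun he _ }
  let T : Subalgebra R L' :=
    { V'.toSubring with
      algebraMap_mem' := fun r => (hjL _).2 (hV r) }
  let S : Subgroup (sp R L' ⟶ sp R A) := (ptsHom T.val (sp R A)).range
  have heS : pt eA ∈ S := ⟨pt (eA.codRestrict T heV), (pt_comp _ _).symm⟩
  let g : sp R L' ⟶ sp R A := pt (jA.comp x) * (pt eA)⁻¹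
  have hxe : pt (jA.comp x) ≫ pt ψ = pt eA ≫ pt ψ := by
    rw [← pt_comp, ← pt_comp]
    congr 1
    exact AlgHom.ext fun c => (RingHom.congr_fun he c).symm
  have hg : g ≫ pt ψ = 1 := by
    simp only [g, MonObj.mul_comp, GrpObj.inv_comp, hxe, mul_inv_cancel]
  let h₀ : sp R L' ⟶ sp R D := hker.lift g (toUnit _) (hg.trans rfl)
  have hh₀ : h₀ ≫ pt φ = g := hker.lift_fst _ _ _
  -- its power is a point with integral values
  have hgn : g ^ n ∈ S := by
    rw [(commute_pts _ _).mul_pow, pt_comp, ← MonObj.comp_pow, hx, MonObj.comp_one, _root_.one_mul]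
    exact Subgroup.pow_mem _ (S.inv_mem heS) n
  obtain ⟨w, hw⟩ := hgn
  obtain ⟨w, rfl⟩ := DiagRep.exists_pt w
  have hwψ : pt w ≫ pt ψ = 1 := by
    rw [← DiagRep.pt_one, ← pt_comp]
    refine congrArg pt (pt_injective_comp T.val Subtype.val_injective ?_)
    rw [pt_comp, ← Category.assoc]
    show ptsHom T.val (sp R A) (pt w) ≫ pt ψ = _
    rw [hw, MonObj.pow_comp, hg, one_pow, DiagRep.pt_one, MonObj.comp_one]
  let w₁ : sp R T ⟶ sp R D := hker.lift (pt w) (toUnit _) (hwψ.trans rfl)
  have hw₁ : w₁ ≫ pt φ = pt w := hker.lift_fst _ _ _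
  obtain ⟨w₂, hw₂⟩ := DiagRep.exists_pt w₁
  obtain ⟨h₁, hh₁⟩ := DiagRep.exists_pt h₀
  have hhn : h₀ ^ n = pt T.val ≫ w₁ := by
    rw [← cancel_mono (pt φ), MonObj.pow_comp, hh₀, Category.assoc, hw₁]
    exact hw.symm
  rw [hh₁, hw₂, HomCorr.pt_pow, ← pt_comp] at hhn
  have hpow : ∀ d, h₁ (SGA3b.powConv R D n d) ∈ V' := fun d => by
    rw [← AlgHom.comp_apply, pt_injective hhn]
    exact (w₂ d).2
  have hh₁V : ∀ d, h₁ d ∈ V' := mem_of_powConv_mem hD V' (fun r => (hjL _).2 (hV r)) h₁ hn hpow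
  have hgS : g ∈ S := by
    refine ⟨pt (h₁.codRestrict T hh₁V) ≫ pt φ, ?_⟩
    show pt T.val ≫ _ = g
    rw [← Category.assoc, ← pt_comp, ← hh₀, hh₁]
    rfl
  have hxS : pt (jA.comp x) ∈ S := by
    have h := S.mul_mem hgS heS
    simpa only [g, inv_mul_cancel_right] using h
  obtain ⟨u, hu⟩ := hxS
  obtain ⟨u, rfl⟩ := DiagRep.exists_pt u
  have hu' : T.val.comp u = jA.comp x := pt_injective (by rw [pt_comp]; exact hu)
  intro a
  refine (hjL _).1 ?_
  show jA.comp x a ∈ V'
  rw [← hu']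
  exact (u a).2

/-- The torsion of an extension is finite. -/
theorem finite_torsion [Coalgebra.IsCocomm R A] [Algebra.FiniteType R A] (hD : SGA3b.IsMultType R D) (n : ℕ)
    (hn : n ≠ 0) (hC : Module.Finite R (C ⧸ SGA3b.torsionIdeal R C n)) (ψ : C →ₐ[R] A) (φ : A →ₐ[R] D)
    [IsMonHom (pt ψ)] [IsMonHom (pt φ)] (hker : AlgGrp.IsKernel (pt φ) (pt ψ))
    (hflat : ψ.toRingHom.Flat) (hsurj : Function.Surjective (PrimeSpectrum.comap ψ.toRingHom)) :
    Module.Finite R (A ⧸ SGA3b.torsionIdeal R A n) := by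
  haveI : Algebra.FiniteType R (A ⧸ SGA3b.torsionIdeal R A n) :=
    Algebra.FiniteType.of_surjective (Ideal.Quotient.mkₐ R _) Ideal.Quotient.mk_surjective
  haveI : Algebra.IsIntegral R (A ⧸ SGA3b.torsionIdeal R A n) := isIntegral_of_valuations fun L _ _ V hV x t => by
    obtain ⟨a, rfl⟩ := Ideal.Quotient.mk_surjective t
    refine torsion_valuative hD n hn hC ψ φ hker hflat hsurj V hV (x.comp (Ideal.Quotient.mkₐ R _)) ?_ a
    rw [HomCorr.pt_pow, ← DiagRep.pt_one]
    refine congrArg pt (AlgHom.ext fun b => ?_)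
    have h1 : (Ideal.Quotient.mkₐ R (SGA3b.torsionIdeal R A n))
        (SGA3b.powConv R A n (b - algebraMap R A (Coalgebra.counit b))) = 0 :=
      Ideal.Quotient.eq_zero_iff_mem.2 (Ideal.mem_map_of_mem _ (show Bialgebra.counitAlgHom R A _ = 0 by
        rw [map_sub, AlgHom.commutes, Bialgebra.counitAlgHom_apply]; exact sub_self _))
    rw [map_sub, map_sub, sub_eq_zero, AlgHom.commutes, AlgHom.commutes] at h1
    show x (Ideal.Quotient.mkₐ R _ (SGA3b.powConv R A n b)) = algebraMap R L (Coalgebra.counit b)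
    rw [h1]
    exact x.commutes _
  exact Algebra.IsIntegral.finite

end Groth.Agent.MultExt
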