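import Groth.Agent.MultExtLib.Field
import Groth.Agent.MultExtLib.Torsion
import Groth.Agent.CentreDescLib.Main
import Groth.Agent.MonoQuotLib.Orbit
import Groth.Agent.MonoQuotLib.Kernel
import Groth.Agent.AlgSpLib.AffineDescent
import Groth.Agent.PowEtCentralLib.Split
import Groth.Agent.PowEtCentralLib.Transport
import Groth.Agent.EqNhdLib.Main
import Groth.Agent.FinMultLib.Normal
import Groth.Agent.S5242
import Groth.Agent.S5264

/-!
Commutative extensions of groups of multiplicative type are of multiplicative type.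
-/

set_option autoImplicit false
set_option backward.isDefEq.respectTransparency false
set_option maxHeartbeats 1000000

noncomputable section

universe u

open CategoryTheory CategoryTheory.Limits MonoidalCategory CartesianMonoidalCategory AlgebraicGeometry CoactBr WithConv
open scoped MonObj TensorProduct
open Groth.Agent.DiagRep (baseHom bcHom)

namespace Groth.Agent.MultExt

attribute [-instance] CategoryTheory.Hom.commGroup
attribute [local instance] CoactBr.braidedAlgSpecOf

section Basic

variable {S T : Scheme.{u}}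

/-- Commutativity passes to base changes. -/
theorem isCommMonObj_bc (π : T ⟶ S) (E : Over S) [GrpObj E] [IsCommMonObj E] : IsCommMonObj (Red.bc π E) := by
  have hc : ∀ (X : Over T) (a b : X ⟶ Red.bc π E), a * b = b * a := by
    intro X a b
    obtain ⟨a, rfl⟩ := (PowEtCentralLib.adjEquiv (G := E) π X).surjective a
    obtain ⟨b, rfl⟩ := (PowEtCentralLib.adjEquiv (G := E) π X).surjective b
    letI : CommGroup ((Over.map π).obj X ⟶ E) := Hom.commGroup
    rw [← map_mul, ← map_mul, mul_comm]
  constructor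
  show _ = _
  rw [MonObj.mul_eq_mul, MonObj.comp_mul]
  rw [show (β_ (Red.bc π E) (Red.bc π E)).hom ≫ fst _ _ = snd _ _ by simp,
    show (β_ (Red.bc π E) (Red.bc π E)).hom ≫ snd _ _ = fst _ _ by simp]
  exact hc _ _ _

/-- Kernels commute with base change. -/
theorem isKernel_bc (π : T ⟶ S) {H E K : Over S} [GrpObj H] [GrpObj E] [GrpObj K] {i : H ⟶ E} {p : E ⟶ K}
    (hker : AlgGrp.IsKernel i p) : AlgGrp.IsKernel ((Over.pullback π).map i) ((Over.pullback π).map p) := by
  haveI : Mono i := ⟨fun {Z} a b h => hker.hom_ext h (toUnit_unique _ _)⟩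
  haveI : Mono ((Over.pullback π).map i) := inferInstance
  have hF : ∀ {A B : Over S} [GrpObj A] [GrpObj B] {X : Over T} (a : (Over.map π).obj X ⟶ A) (f : A ⟶ B),
      PowEtCentralLib.adjEquiv (G := B) π X (a ≫ f) =
        PowEtCentralLib.adjEquiv (G := A) π X a ≫ (Over.pullback π).map f :=
    fun a f => (Over.mapPullbackAdj π).homEquiv_naturality_right a f
  have hw : (Over.pullback π).map i ≫ (Over.pullback π).map p = toUnit _ ≫ η[Red.bc π K] := by
    rw [← Functor.map_comp, ← Hom.one_def]
    obtain ⟨a, ha⟩ := (PowEtCentralLib.adjEquiv (G := H) π (Red.bc π H)).surjective (𝟙 _)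
    rw [← Category.id_comp ((Over.pullback π).map (i ≫ p)), ← ha, ← hF,
      show a ≫ i ≫ p = 1 by rw [hker.w, ← Category.assoc, toUnit_unique (a ≫ toUnit H) (toUnit _), ← Hom.one_def],
      map_one]
  refine ⟨⟨hw⟩, ⟨PullbackCone.IsLimit.mk _ (fun c => ?_) (fun c => ?_) (fun c => toUnit_unique _ _)
    (fun c m h1 h2 => ?_)⟩⟩
  · exact PowEtCentralLib.adjEquiv (G := H) π c.pt (hker.lift ((PowEtCentralLib.adjEquiv (G := E) π c.pt).symm c.fst)
      (toUnit _) (by
        rw [← Hom.one_def]
        refine (PowEtCentralLib.adjEquiv (G := K) π c.pt).injective ?_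
        rw [hF, MulEquiv.apply_symm_apply, map_one, c.condition, toUnit_unique c.snd (toUnit _), ← Hom.one_def]))
  · rw [← hF, IsPullback.lift_fst, MulEquiv.apply_symm_apply]
  · rw [← cancel_mono ((Over.pullback π).map i), h1, ← hF, IsPullback.lift_fst, MulEquiv.apply_symm_apply]

/-- Being of multiplicative type is local on the base. -/
theorem isMultTypeFT_of_affineOpens (E : Over S) [GrpObj E]
    (h : ∀ U : S.affineOpens, SGA3x.IsMultTypeFT (Red.bc (U : S.Opens).ι E)) : SGA3x.IsMultTypeFT E := by
  choose S' g hflat hsurj hcov hloc using h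
  let f : (∐ S') ⟶ S := Sigma.desc fun U => g U ≫ (U : S.Opens).ι
  haveI : Flat f := IsZariskiLocalAtSource.sigmaDesc fun U => by
    haveI := hflat U
    exact inferInstanceAs (Flat (g U ≫ (U : S.Opens).ι))
  have hW : ∀ V : S.affineOpens, ∃ W : (∐ S').Opens, IsCompact (W : Set ↥(∐ S')) ∧
      f.base '' (W : Set ↥(∐ S')) = ((V : S.Opens) : Set S) := by
    intro V
    haveI : IsAffine (V : S.Opens) := V.2
    obtain ⟨W₀, hW₀, hW₀'⟩ := hcov V ⊤ (isAffineOpen_top _)
    refine ⟨Sigma.ι S' V ''ᵁ W₀, hW₀.image (Sigma.ι S' V).continuous, ?_⟩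
    show f.base '' ((Sigma.ι S' V).base '' (W₀ : Set (S' V))) = _
    rw [Set.image_image]
    have e : ∀ z, f.base ((Sigma.ι S' V).base z) = (V : S.Opens).ι.base ((g V).base z) := fun z => by
      rw [← Scheme.Hom.comp_apply, Sigma.ι_desc]
      rfl
    simp only [e]
    rw [← Set.image_image, hW₀', TopologicalSpace.Opens.coe_top, Set.image_univ]
    exact Scheme.Opens.range_ι _
  refine ⟨∐ S', f, inferInstance, ⟨fun s => ?_⟩, fun V hV => hW ⟨V, hV⟩, fun x => ?_⟩
  · obtain ⟨V, hV, hsV, -⟩ := exists_isAffineOpen_mem_and_subset (X := S) (x := s) (U := ⊤) trivial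
    obtain ⟨W, -, hW'⟩ := hW ⟨V, hV⟩
    obtain ⟨z, -, hz⟩ : s ∈ f.base '' (W : Set ↥(∐ S')) := by rw [hW']; exact hsV
    exact ⟨z, hz⟩
  obtain ⟨(U : S.affineOpens), (z : S' U), rfl⟩ := (sigmaOpenCover S').exists_eq x
  obtain ⟨U₀, hzU, M, _, hfg, ⟨e⟩⟩ := hloc U z
  let j : (U₀ : Scheme.{u}) ⟶ ∐ S' := U₀.ι ≫ Sigma.ι S' U
  refine ⟨j.opensRange, ⟨⟨z, hzU⟩, rfl⟩, M, inferInstance, hfg, ?_⟩
  let r : (j.opensRange : Scheme.{u}) ⟶ (U₀ : Scheme.{u}) := j.isoOpensRange.inv
  let c := U₀.ι ≫ g U
  have hr : (r ≫ c) ≫ (U : S.Opens).ι = j.opensRange.ι ≫ f := by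
    rw [← Scheme.Hom.isoOpensRange_inv_comp j]
    simp only [r, c, j, f, Category.assoc, Sigma.ι_desc]
  let e₁ : Red.bc c (Red.bc (U : S.Opens).ι E) ≅ Red.DS (U₀ : Scheme.{u}) M := (Grp.forget _).mapIso e
  haveI : IsMonHom e₁.hom := e.hom.hom.isMonHom_hom
  let b : Red.bc (r ≫ c) (Red.bc (U : S.Opens).ι E) ≅ Red.bc (j.opensRange.ι ≫ f) E := ActBC.bcCompIso (r ≫ c) _ E hr
  haveI : IsMonHom b.hom := ActBC.bcCompIso_isMonHom _ _ _
  haveI : IsMonHom b.inv := inferInstance
  obtain ⟨a₁, ha₁⟩ := RedCharZeroLib.exists_bc_comp r c (Red.bc (U : S.Opens).ι E)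
  obtain ⟨a₂, ha₂⟩ := RedCharZeroLib.exists_DS_bc r M
  haveI := ha₁
  haveI := ha₂
  haveI : IsMonHom ((Over.pullback r).mapIso e₁).hom :=
    @Functor.map.instIsMonHom _ _ _ _ _ _ (Over.pullback r) _ _ _ _ _ e₁.hom _
  let w : Red.bc (j.opensRange.ι ≫ f) E ≅ Red.DS (j.opensRange : Scheme.{u}) M :=
    b.symm ≪≫ a₁ ≪≫ (Over.pullback r).mapIso e₁ ≪≫ a₂.symm
  haveI : IsMonHom w.hom := by dsimp only [w, Iso.trans_hom, Iso.symm_hom]; infer_instance
  exact ⟨Grp.mkIso' w⟩

end Basic

/-- Over a field a commutative extension of groups of multiplicative type is of multiplicative type. -/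
theorem isMultTypeFT_of_ext_field {k : Type u} [Field k] (E : Over (Spec (CommRingCat.of k))) [GrpObj E]
    [IsCommMonObj E] [IsAffine E.left] [LocallyOfFiniteType E.hom] {H K : Over (Spec (CommRingCat.of k))} [GrpObj H]
    [GrpObj K] (p : E ⟶ K) [IsMonHom p] (i : H ⟶ E) [IsMonHom i] (hker : AlgGrp.IsKernel i p)
    (hH : SGA3x.IsMultTypeFT H) (hK : SGA3x.IsMultTypeFT K) : SGA3x.IsMultTypeFT E := by
  let F : Type u := AlgebraicClosure k
  let π : Spec (CommRingCat.of F) ⟶ Spec (CommRingCat.of k) := baseHom k F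
  haveI : Surjective π := TorusField.surjective_baseHom k F
  haveI : Flat π := by
    rw [HasRingHomProperty.Spec_iff (P := @Flat)]
    exact RingHom.flat_algebraMap_iff.2 inferInstance
  haveI : IsAffineHom E.hom := inferInstance
  haveI : IsAffine (Red.bc π E).left := inferInstanceAs (IsAffine (pullback E.hom π))
  haveI : LocallyOfFiniteType (Red.bc π E).hom := inferInstanceAs (LocallyOfFiniteType (pullback.snd E.hom π))
  haveI := isCommMonObj_bc π E
  haveI : IsMonHom (M := Red.bc π E) (N := Red.bc π K) ((Over.pullback π).map p) := DiagRep.isMonHom_bc_map π p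
  haveI : IsMonHom (M := Red.bc π H) (N := Red.bc π E) ((Over.pullback π).map i) := DiagRep.isMonHom_bc_map π i
  have h := isMultTypeFT_of_ext_algClosed (Red.bc π E) (H := Red.bc π H) (K := Red.bc π K) ((Over.pullback π).map p)
    ((Over.pullback π).map i) (isKernel_bc π hker) (DescHom.isMultTypeFT_bc hH π) (DescHom.isMultTypeFT_bc hK π)
  haveI : IsMonHom (Iso.refl (Red.bc π E)).hom := inferInstanceAs (IsMonHom (𝟙 (Red.bc π E)))
  exact CentreDesc.isMultTypeFT_of_bc π
    (fun V hV => ⟨π ⁻¹ᵁ V, π.isCompact_preimage hV.isCompact, Set.image_preimage_eq _ π.surjective⟩) (Iso.refl _) h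

/-- Over an affine base. -/
theorem isMultTypeFT_of_ext_affine {R : Type u} [CommRing R] (E : Over (Spec (CommRingCat.of R))) [GrpObj E]
    [IsCommMonObj E] {H K : Over (Spec (CommRingCat.of R))} [GrpObj H] [GrpObj K] (p : E ⟶ K) [IsMonHom p]
    [Surjective p.left] [Flat p.left] [QuasiCompact p.left] (i : H ⟶ E) [IsMonHom i] (hker : AlgGrp.IsKernel i p)
    (hH : SGA3x.IsMultTypeFT H) (hK : SGA3x.IsMultTypeFT K) : SGA3x.IsMultTypeFT E := by
  haveI : Mono i := ⟨fun {Z} a b h => hker.hom_ext h (toUnit_unique _ _)⟩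
  haveI := MultEq.isAffineHom_of_isMultTypeFT hH
  haveI := MultEq.isAffineHom_of_isMultTypeFT hK
  haveI := MultEq.lfp_of_isMultTypeFT hH
  haveI := MultEq.lfp_of_isMultTypeFT hK
  haveI : IsAffine K.left := isAffine_of_isAffineHom K.hom
  haveI : IsAffine H.left := isAffine_of_isAffineHom H.hom
  -- the extension is a torsor over the quotient
  have sqL : IsPullback (fst E H).left ((E ◁ i) ≫ μ[E]).left p.left p.left :=
    (MonoQuot.isPullback_cosets i p (MonoQuot.kernel_iff p i hker)).map (Over.forget _)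
  haveI : LocallyOfFinitePresentation p.left := by
    refine MorphismProperty.of_isPullback_of_descendsAlong (P := @LocallyOfFinitePresentation)
      (Q := @Surjective ⊓ @Flat ⊓ @QuasiCompact) sqL
      ⟨⟨inferInstance, inferInstance⟩, inferInstance⟩ ?_
    exact inferInstanceAs (LocallyOfFinitePresentation (pullback.fst E.hom H.hom))
  haveI : IsAffine E.left := by
    haveI : CompactSpace E.left := QuasiCompact.compactSpace_of_compactSpace p.left
    let 𝒰 := E.left.affineCover.finiteSubcover
    let W : Scheme.{u} := ∐ fun j => 𝒰.X j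
    let c : W ⟶ E.left := Sigma.desc fun j => 𝒰.f j
    haveI : ∀ j, IsAffine (𝒰.X j) := fun j => inferInstanceAs (IsAffine (E.left.affineCover.X _))
    haveI : Finite 𝒰.I₀ := inferInstance
    haveI : IsAffine W := inferInstance
    haveI : Flat c := IsZariskiLocalAtSource.sigmaDesc fun j => inferInstance
    haveI : Surjective c := ⟨fun x => by
      obtain ⟨j, z, hz⟩ := 𝒰.exists_eq x
      exact ⟨(Sigma.ι (fun j => 𝒰.X j) j) z, by rw [← Scheme.Hom.comp_apply, Sigma.ι_desc]; exact hz⟩⟩
    haveI : IsAffineHom (fst E H).left := MorphismProperty.pullback_fst (P := @IsAffineHom) E.hom H.hom inferInstance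
    haveI : IsAffine (pullback (fst E H).left c) := isAffine_of_isAffineHom (pullback.snd (fst E H).left c)
    exact AlgSpLib.isAffine_of_descent (f := c ≫ p.left) (g := p.left)
      ((IsPullback.of_hasPullback (fst E H).left c).paste_horiz sqL.flip)
  obtain ⟨A, _, _, e, he, he'⟩ := HomCorr.exists_hopf E
  obtain ⟨C, _, _, vK, hvK, hvK'⟩ := HomCorr.exists_hopf K
  obtain ⟨D, _, _, vH, hvH, hvH'⟩ := HomCorr.exists_hopf H
  haveI := he; haveI := he'; haveI := hvK; haveI := hvK'; haveI := hvH; haveI := hvH'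
  have hC := HomCorr.isMultType_of_locally vK.hom (Transporter.locally_of_isMultTypeFT hK)
  have hD := HomCorr.isMultType_of_locally vH.hom (Transporter.locally_of_isMultTypeFT hH)
  have hft : ∀ {B : Type u} [CommRing B] [Algebra R B] {X : Over (Spec (CommRingCat.of R))} (v : sp R B ≅ X),
      LocallyOfFinitePresentation X.hom → Algebra.FinitePresentation R B := by
    intro B _ _ X v hX
    haveI : IsIso v.hom.left := (Over.forget _).map_isIso v.hom
    haveI : LocallyOfFinitePresentation (sp R B).hom := by rw [← Over.w v.hom]; infer_instance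
    have h : (algebraMap R B).FinitePresentation :=
      (HasRingHomProperty.Spec_iff (P := @LocallyOfFinitePresentation) (φ := CommRingCat.ofHom (algebraMap R B))).1
        (inferInstance : LocallyOfFinitePresentation (sp R B).hom)
    exact RingHom.finitePresentation_algebraMap.1 h
  haveI : LocallyOfFinitePresentation E.hom := by rw [← Over.w p]; infer_instance
  haveI hfp : Algebra.FinitePresentation R A := hft e inferInstance
  haveI : Algebra.FinitePresentation R C := hft vK inferInstance
  haveI : Algebra.FinitePresentation R D := hft vH inferInstance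
  haveI : Coalgebra.IsCocomm R A := by
    haveI : IsCommMonObj (sp R A) := ⟨by
      rw [← cancel_mono e.hom, Category.assoc, IsMonHom.mul_hom, ← BraidedCategory.braiding_naturality_assoc,
        IsCommMonObj.mul_comm]⟩
    letI : CommGroup (sp R (A ⊗[R] A) ⟶ sp R A) := Hom.commGroup
    have h : toConv (Algebra.TensorProduct.includeLeft : A →ₐ[R] A ⊗[R] A) * toConv Algebra.TensorProduct.includeRight =
        toConv Algebra.TensorProduct.includeRight * toConv Algebra.TensorProduct.includeLeft := by
      refine WithConv.ext (pt_injective ?_)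
      rw [← DiagRep.pt_mul_conv, ← DiagRep.pt_mul_conv]
      exact mul_comm _ _
    let σ : A ⊗[R] A →ₐ[R] A ⊗[R] A := (Algebra.TensorProduct.comm R A A).toAlgHom
    refine ⟨LinearMap.ext fun a => ?_⟩
    have h1 := DFunLike.congr_fun (congrArg ofConv h) a
    rw [AlgHom.convMul_apply, AlgHom.convMul_apply] at h1
    have e1 : ∀ z : A ⊗[R] A, Algebra.TensorProduct.lift (Algebra.TensorProduct.includeLeft : A →ₐ[R] A ⊗[R] A)
        Algebra.TensorProduct.includeRight (fun _ _ => Commute.all _ _) z = z := fun z => by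
      induction z using TensorProduct.induction_on with
      | zero => simp
      | add x y hx hy => simp only [map_add, hx, hy]
      | tmul x y => simp
    have e2 : ∀ z : A ⊗[R] A, Algebra.TensorProduct.lift (Algebra.TensorProduct.includeRight : A →ₐ[R] A ⊗[R] A)
        Algebra.TensorProduct.includeLeft (fun _ _ => Commute.all _ _) z = TensorProduct.comm R A A z := fun z => by
      induction z using TensorProduct.induction_on with
      | zero => simp
      | add x y hx hy => simp only [map_add, hx, hy]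
      | tmul x y => simp
    simp only [e1, e2] at h1
    exact h1.symm
  -- the maps of Hopf algebras
  obtain ⟨ψ, hψ⟩ := DiagRep.exists_pt (e.hom ≫ p ≫ vK.inv)
  obtain ⟨φ, hφ⟩ := DiagRep.exists_pt (vH.hom ≫ i ≫ e.inv)
  haveI : IsMonHom (pt ψ) := hψ ▸ inferInstanceAs (IsMonHom (e.hom ≫ p ≫ vK.inv))
  haveI : IsMonHom (pt φ) := hφ ▸ inferInstanceAs (IsMonHom (vH.hom ≫ i ≫ e.inv))
  have hker' : AlgGrp.IsKernel (pt φ) (pt ψ) := by
    refine IsPullback.of_iso hker vH.symm e.symm (Iso.refl _) vK.symm ?_ ?_ ?_ ?_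
    · rw [← hφ]; simp
    · exact toUnit_unique _ _
    · rw [← hψ]; simp
    · simp [IsMonHom.one_hom (f := vK.inv)]
  haveI : IsIso e.hom.left := (Over.forget _).map_isIso e.hom
  haveI : IsIso vK.inv.left := (Over.forget _).map_isIso vK.inv
  have hleft : Spec.map (CommRingCat.ofHom ψ.toRingHom) = e.hom.left ≫ p.left ≫ vK.inv.left := by
    rw [← Over.comp_left, ← Over.comp_left, hψ, pt_left]
  have hflat : ψ.toRingHom.Flat := by
    have h : Flat (Spec.map (CommRingCat.ofHom ψ.toRingHom)) := by rw [hleft]; infer_instance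
    rwa [HasRingHomProperty.Spec_iff (P := @Flat)] at h
  have hsurj : Function.Surjective (PrimeSpectrum.comap ψ.toRingHom) := by
    have h : Surjective (Spec.map (CommRingCat.ofHom ψ.toRingHom)) := by rw [hleft]; infer_instance
    exact h.surj
  haveI : Module.Flat R A := by
    haveI : Flat E.hom := by
      haveI := EqNhd.flat_of_isMultTypeFT hK
      rw [← Over.w p]; infer_instance
    have h : Flat (sp R A).hom := by rw [← Over.w e.hom]; infer_instance
    exact RingHom.flat_algebraMap_iff.1 ((HasRingHomProperty.Spec_iff (P := @Flat)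
      (φ := CommRingCat.ofHom (algebraMap R A))).1 h)
  have hfib : ∀ (q : Ideal R) [q.IsPrime], SGA3b.IsMultType q.ResidueField (q.ResidueField ⊗[R] A) := by
    intro q _
    let b := baseHom R q.ResidueField
    haveI := isCommMonObj_bc b E
    haveI : IsAffine (Red.bc b E).left := inferInstanceAs (IsAffine (pullback E.hom b))
    haveI : LocallyOfFiniteType (Red.bc b E).hom := inferInstanceAs (LocallyOfFiniteType (pullback.snd E.hom b))
    haveI : IsMonHom (M := Red.bc b E) (N := Red.bc b K) ((Over.pullback b).map p) := DiagRep.isMonHom_bc_map b p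
    haveI : IsMonHom (M := Red.bc b H) (N := Red.bc b E) ((Over.pullback b).map i) := DiagRep.isMonHom_bc_map b i
    have hE := isMultTypeFT_of_ext_field (Red.bc b E) (H := Red.bc b H) (K := Red.bc b K) ((Over.pullback b).map p)
      ((Over.pullback b).map i) (isKernel_bc b hker) (DescHom.isMultTypeFT_bc hH b) (DescHom.isMultTypeFT_bc hK b)
    haveI : IsMonHom (M := Red.bc b (sp R A)) (N := Red.bc b E) ((Over.pullback b).map e.hom) :=
      DiagRep.isMonHom_bc_map b e.hom
    haveI : IsMonHom (asIso (bcHom R q.ResidueField A)).hom := DiagRep.isMonHom_bcHom R q.ResidueField A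
    let v : sp q.ResidueField (q.ResidueField ⊗[R] A) ⟶ Red.bc b E :=
      (asIso (bcHom R q.ResidueField A)).inv ≫ (Over.pullback b).map e.hom
    haveI : IsMonHom v := inferInstanceAs (IsMonHom ((asIso (bcHom R q.ResidueField A)).inv ≫ (Over.pullback b).map e.hom))
    haveI : IsIso v := inferInstanceAs (IsIso ((asIso (bcHom R q.ResidueField A)).inv ≫ (Over.pullback b).map e.hom))
    exact HomCorr.isMultType_of_locally v (Transporter.locally_of_isMultTypeFT hE)
  have hA : SGA3b.IsMultType R A := Groth.Agent.S5264.result R A hfp hfib fun n hn => by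
    haveI : Coalgebra.IsCocomm R C := FinMult.isCocomm_of_isMultType hC
    haveI : (SGA3b.torsionIdeal R C n).IsHopfIdeal R := FinMult.isHopfIdeal_torsionIdeal n
    exact finite_torsion hD n hn.ne' (Groth.Agent.S5242.result R C inferInstance hC n hn _ rfl).2 ψ φ hker' hflat hsurj
  exact HomCorr.isMultTypeFT_of_isMultType e.hom hA

/-- A commutative extension of groups of multiplicative type and finite type is of multiplicative type. -/
theorem isMultTypeFT_of_ext_comm {S : Scheme.{u}} (E : Over S) [GrpObj E] [IsCommMonObj E] {H K : Over S}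
    [GrpObj H] [GrpObj K] (p : E ⟶ K) [IsMonHom p] [Surjective p.left] [Flat p.left] [QuasiCompact p.left]
    (i : H ⟶ E) [IsMonHom i] (hker : AlgGrp.IsKernel i p)
    (hH : SGA3x.IsMultTypeFT H) (hK : SGA3x.IsMultTypeFT K) : SGA3x.IsMultTypeFT E := by
  refine isMultTypeFT_of_affineOpens E fun U => ?_
  haveI : IsAffine (U : S.Opens) := U.2
  let τ := (U : S.Opens).toScheme.isoSpec
  let b : Spec (CommRingCat.of Γ((U : S.Opens).toScheme, ⊤)) ⟶ S := τ.inv ≫ (U : S.Opens).ι
  haveI := isCommMonObj_bc b E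
  haveI : IsMonHom (M := Red.bc b E) (N := Red.bc b K) ((Over.pullback b).map p) := DiagRep.isMonHom_bc_map b p
  haveI : IsMonHom (M := Red.bc b H) (N := Red.bc b E) ((Over.pullback b).map i) := DiagRep.isMonHom_bc_map b i
  have sq := PowEtCentralLib.isPullback_map_left b p
  haveI : Surjective ((Over.pullback b).map p).left := MorphismProperty.of_isPullback sq ‹_›
  haveI : Flat ((Over.pullback b).map p).left := MorphismProperty.of_isPullback sq ‹_›
  haveI : QuasiCompact ((Over.pullback b).map p).left := MorphismProperty.of_isPullback sq ‹_›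
  have h := isMultTypeFT_of_ext_affine (Red.bc b E) (H := Red.bc b H) (K := Red.bc b K) ((Over.pullback b).map p)
    ((Over.pullback b).map i) (isKernel_bc b hker) (DescHom.isMultTypeFT_bc hH b) (DescHom.isMultTypeFT_bc hK b)
  let β : Red.bc τ.inv (Red.bc (U : S.Opens).ι E) ≅ Red.bc b E := ActBC.bcCompIso τ.inv _ E rfl
  haveI : IsMonHom β.hom := ActBC.bcCompIso_isMonHom _ _ _
  exact CentreDesc.isMultTypeFT_of_bc τ.inv
    (fun V hV => ⟨τ.inv ⁻¹ᵁ V, τ.inv.isCompact_preimage hV.isCompact, Set.image_preimage_eq _ τ.inv.surjective⟩) β h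

end Groth.Agent.MultExt
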