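import Groth.Agent.MultExtLib.Rigid

/-!
Kernels of quotient maps; preimages of central homomorphisms in a quotient by a central subgroup.
-/

set_option autoImplicit false
set_option backward.isDefEq.respectTransparency false
set_option maxHeartbeats 1000000

noncomputable section

universe u

open CategoryTheory CategoryTheory.Limits MonoidalCategory CartesianMonoidalCategory AlgebraicGeometry
open scoped MonObj

namespace Groth.Agent.MultExt

attribute [-instance] CategoryTheory.Hom.commGroup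

variable {S : Scheme.{u}}

/-- A homomorphism which is the quotient by a subgroup has that subgroup as kernel. -/
theorem isKernel_of_sq {G H Q : Over S} [GrpObj G] [GrpObj H] [GrpObj Q] (i : H ⟶ G) (q : G ⟶ Q) [IsMonHom q]
    (hq : IsPullback (fst G H) ((G ◁ i) ≫ μ[G]) q q) : AlgGrp.IsKernel i q := by
  have key : ∀ {X : Over S} (g : X ⟶ G) (h : X ⟶ H), lift g h ≫ (G ◁ i) ≫ μ[G] = g * (h ≫ i) := fun g h => by
    rw [lift_whiskerLeft_assoc, Hom.mul_def]
  have hmono : Mono i := ⟨fun {X} h h' e => by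
    have h1 : lift (1 : X ⟶ G) h = lift 1 h' := hq.hom_ext (by rw [lift_fst, lift_fst]) (by rw [key, key, e])
    simpa using congrArg (· ≫ snd G H) h1⟩
  have hw : i ≫ q = toUnit H ≫ η[Q] := by
    have h1 := congrArg (lift (1 : H ⟶ G) (𝟙 H) ≫ ·) hq.w
    rw [← Category.assoc, lift_fst, MonObj.one_comp, ← Category.assoc, key, Category.id_comp, _root_.one_mul] at h1
    rw [← h1, Hom.one_def]
  have ex : ∀ c : PullbackCone q η[Q], ∃ h : c.pt ⟶ H, h ≫ i = c.fst := fun c => by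
    have e : (1 : c.pt ⟶ G) ≫ q = c.fst ≫ q := by
      rw [MonObj.one_comp, c.condition, toUnit_unique c.snd (toUnit _), Hom.one_def]
    refine ⟨hq.lift 1 c.fst e ≫ snd G H, ?_⟩
    have h1 : hq.lift 1 c.fst e = lift (1 : c.pt ⟶ G) (hq.lift 1 c.fst e ≫ snd G H) := by
      ext
      · rw [lift_fst, hq.lift_fst]
      · rw [lift_snd]
    have h2 : hq.lift 1 c.fst e ≫ (G ◁ i) ≫ μ[G] = c.fst := hq.lift_snd _ _ _
    rw [h1, key, _root_.one_mul] at h2
    exact h2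
  choose l hl using ex
  exact ⟨⟨hw⟩, ⟨PullbackCone.IsLimit.mk _ l hl (fun c => toUnit_unique _ _)
    (fun c m h1 _ => by rw [← cancel_mono i, h1, hl])⟩⟩

/-- An open surjection with quasi-compact self-pullback is quasi-compact. -/
theorem quasiCompact_of_self {X Y R : Scheme.{u}} (q : X ⟶ Y) [Surjective q] [UniversallyOpen q] (a b : R ⟶ X)
    (sq : IsPullback a b q q) [QuasiCompact a] : QuasiCompact q := by
  refine (quasiCompact_iff_forall_isAffineOpen (f := q)).2 fun V hV => ?_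
  obtain ⟨W, hW, hWV⟩ : ∃ W : X.Opens, IsCompact (W : Set X) ∧ q.base '' (W : Set X) = (V : Set Y) := by
    exact q.isOpenMap.exists_opens_image_eq_of_prespectralSpace q.continuous (by simp) V.isOpen hV.isCompact
  have e : (q ⁻¹ᵁ V : Set X) = b.base '' (a ⁻¹ᵁ W : Set R) := by
    ext x
    constructor
    · intro hx
      obtain ⟨w, hw, hwx⟩ : q.base x ∈ q.base '' (W : Set X) := by rw [hWV]; exact hx
      obtain ⟨z, hz₁, hz₂⟩ := Scheme.Pullback.exists_preimage_pullback (f := q) (g := q) w x hwx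
      refine ⟨sq.isoPullback.inv.base z, ?_, ?_⟩
      · show a.base (sq.isoPullback.inv.base z) ∈ W
        rw [← Scheme.Hom.comp_apply, sq.isoPullback_inv_fst, hz₁]
        exact hw
      · rw [← Scheme.Hom.comp_apply, sq.isoPullback_inv_snd, hz₂]
    · rintro ⟨z, hz, rfl⟩
      show q.base (b.base z) ∈ (V : Set Y)
      rw [← Scheme.Hom.comp_apply, ← sq.w, Scheme.Hom.comp_apply, ← hWV]
      exact ⟨_, hz, rfl⟩
  rw [e]
  exact (a.isCompact_preimage hW).image b.continuous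

/-- Lifts of a central subgroup of multiplicative type of a central quotient are central. -/
theorem central_lift {G H Q A : Over S} [GrpObj G] [GrpObj H] [GrpObj Q] [GrpObj A] (q : G ⟶ Q) [IsMonHom q]
    (hq : MonoQuot.IsCov q.left) (i : H ⟶ G) [IsMonHom i] (hker : AlgGrp.IsKernel i q)
    (hH : SGA3x.IsMultTypeFT H) (hc : ∀ (X : Over S) (h : X ⟶ H) (g : X ⟶ G), (h ≫ i) * g = g * (h ≫ i))
    (hA : SGA3x.IsMultTypeFT A) (v : A ⟶ Q) [IsMonHom v]
    (hv : ∀ (X : Over S) (x : X ⟶ A) (g : X ⟶ Q), (x ≫ v) * g = g * (x ≫ v))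
    (hconn : ∀ s : S, _root_.IsConnected (G.hom.base ⁻¹' {s}))
    (X : Over S) (x : X ⟶ A) (g' : X ⟶ G) (hg' : g' ≫ q = x ≫ v) (g : X ⟶ G) : g' * g = g * g' := by
  haveI : Mono i := ⟨fun {Z} a b h => hker.hom_ext h (toUnit_unique _ _)⟩
  haveI := MultEq.lfp_of_isMultTypeFT hH
  haveI := MultEq.isAffineHom_of_isMultTypeFT hH
  let P₀ := pullback v q
  let p₀ : P₀ ⟶ A := pullback.fst v q
  have hp₀ : MonoQuot.IsCov p₀.left := hq.of_isPullback ((IsPullback.of_hasPullback v q).map (Over.forget S))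
  let l : P₀ ⊗ G ⟶ G := fst P₀ G ≫ pullback.snd v q
  let w : P₀ ⊗ G ⟶ G := l * snd P₀ G * l⁻¹ * (snd P₀ G)⁻¹
  have hwq : w ≫ q = toUnit _ ≫ η[Q] := by
    have h1 : l ≫ q = (fst P₀ G ≫ p₀) ≫ v := by
      simp only [l, Category.assoc, p₀]
      rw [pullback.condition]
    rw [← Hom.one_def]
    simp only [w, MonObj.mul_comp, GrpObj.inv_comp]
    rw [h1, hv, mul_inv_cancel_right, mul_inv_cancel]
  let c : P₀ ⊗ G ⟶ H := hker.lift w (toUnit _) hwq
  have hc' : ∀ (Y : Over S) (z : Y ⟶ P₀) (y : Y ⟶ G), lift z y ≫ c ≫ i =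
      (z ≫ pullback.snd v q) * y * (z ≫ pullback.snd v q)⁻¹ * y⁻¹ := by
    intro Y z y
    rw [show c ≫ i = w from hker.lift_fst _ _ _]
    simp only [w, l, MonObj.comp_mul, GrpObj.comp_inv, lift_fst_assoc, lift_snd]
  obtain ⟨b, hb⟩ := (hp₀.whiskerRight G).exists_desc c fun Y a₁ a₂ ha => by
    have h1 : (a₁ ≫ fst P₀ G) ≫ p₀ = (a₂ ≫ fst P₀ G) ≫ p₀ := by
      simpa using congrArg (· ≫ fst A G) ha
    have h2 : a₁ ≫ snd P₀ G = a₂ ≫ snd P₀ G := by
      simpa using congrArg (· ≫ snd A G) ha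
    have h3 : ((a₁ ≫ fst P₀ G) ≫ pullback.snd v q) ≫ q = ((a₂ ≫ fst P₀ G) ≫ pullback.snd v q) ≫ q := by
      simp only [Category.assoc] at h1 ⊢
      rw [← pullback.condition]
      simp only [← Category.assoc] at h1 ⊢
      rw [h1]
    obtain ⟨h, hh⟩ := (MonoQuot.kernel_iff q i hker _ _ _).1 h3
    have e1 : a₁ = lift (a₁ ≫ fst P₀ G) (a₁ ≫ snd P₀ G) := by ext <;> simp
    have e2 : a₂ = lift (a₂ ≫ fst P₀ G) (a₂ ≫ snd P₀ G) := by ext <;> simp
    rw [← cancel_mono i, Category.assoc, Category.assoc, e1, e2, hc', hc', ← hh, h2]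
    generalize (a₁ ≫ fst P₀ G) ≫ pullback.snd v q = r, a₂ ≫ snd P₀ G = y
    have c1 : Commute (h ≫ i) y := hc Y h y
    rw [mul_inv_rev, _root_.mul_assoc r (h ≫ i) y, c1.eq]
    group
  have hb' : ∀ (Y : Over S) (a : Y ⟶ A) (g₁ : Y ⟶ G), g₁ ≫ q = a ≫ v → ∀ y : Y ⟶ G,
      lift a y ≫ b ≫ i = g₁ * y * g₁⁻¹ * y⁻¹ := by
    intro Y a g₁ h₁ y
    have h2 := hc' Y (pullback.lift a g₁ h₁.symm) y
    rw [pullback.lift_snd, ← hb] at h2
    simp only [← Category.assoc, lift_whiskerRight, p₀, pullback.lift_fst] at h2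
    simpa using h2
  have hb1 : b = 1 := by
    refine pairing_eq_one hA b (fun Y a a' t => ?_) η[G] (fun Y a => ?_) hconn
    · obtain ⟨Y₁, κ₁, g₁, hκ₁, hg₁⟩ := hq.exists_lift (a ≫ v)
      obtain ⟨Y₂, κ₂, g₂, hκ₂, hg₂⟩ := hq.exists_lift (κ₁ ≫ a' ≫ v)
      haveI := hκ₁.epi_over; haveI := hκ₂.epi_over
      rw [← cancel_epi κ₁, ← cancel_epi κ₂, ← cancel_mono i]
      have eL : ∀ r : Y ⟶ A, κ₂ ≫ κ₁ ≫ lift r t ≫ b ≫ i = lift (κ₂ ≫ κ₁ ≫ r) (κ₂ ≫ κ₁ ≫ t) ≫ b ≫ i := by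
        intro r
        simp only [← Category.assoc, comp_lift]
      simp only [Category.assoc, MonObj.comp_mul, MonObj.mul_comp, eL]
      have k1 : (κ₂ ≫ g₁) ≫ q = (κ₂ ≫ κ₁ ≫ a) ≫ v := by rw [Category.assoc, hg₁]; simp only [Category.assoc]
      have k2 : g₂ ≫ q = (κ₂ ≫ κ₁ ≫ a') ≫ v := by rw [hg₂]; simp only [Category.assoc]
      have k3 : ((κ₂ ≫ g₁) * g₂) ≫ q = ((κ₂ ≫ κ₁ ≫ a) * (κ₂ ≫ κ₁ ≫ a')) ≫ v := by
        rw [MonObj.mul_comp, MonObj.mul_comp, k1, k2]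
      rw [hb' _ _ _ k3, hb' _ _ _ k1, hb' _ _ _ k2]
      have hcent : ∀ z : Y₂ ⟶ G, Commute (g₂ * (κ₂ ≫ κ₁ ≫ t) * g₂⁻¹ * (κ₂ ≫ κ₁ ≫ t)⁻¹) z := fun z => by
        rw [← hb' _ _ _ k2]
        simpa [Commute, SemiconjBy] using hc Y₂ (lift (κ₂ ≫ κ₁ ≫ a') (κ₂ ≫ κ₁ ≫ t) ≫ b) z
      generalize κ₂ ≫ g₁ = u, κ₂ ≫ κ₁ ≫ t = y at hcent
      calc u * g₂ * y * (u * g₂)⁻¹ * y⁻¹ = u * (g₂ * y * g₂⁻¹ * y⁻¹) * (y * u⁻¹ * y⁻¹) := by group
        _ = (g₂ * y * g₂⁻¹ * y⁻¹) * u * (y * u⁻¹ * y⁻¹) := by rw [(hcent u).eq]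
        _ = (g₂ * y * g₂⁻¹ * y⁻¹) * (u * y * u⁻¹ * y⁻¹) := by group
        _ = (u * y * u⁻¹ * y⁻¹) * (g₂ * y * g₂⁻¹ * y⁻¹) := (hcent _).eq
    · obtain ⟨Y', κ, g₁, hκ, hg₁⟩ := hq.exists_lift (a ≫ v)
      haveI := hκ.epi_over
      rw [← cancel_epi κ, ← cancel_mono i, MonObj.comp_one, MonObj.one_comp, Category.assoc, Category.assoc,
        ← Category.assoc κ, comp_lift, show κ ≫ toUnit Y ≫ η[G] = (1 : Y' ⟶ G) by
          rw [Hom.one_def, ← Category.assoc, toUnit_unique (κ ≫ toUnit Y) (toUnit Y')],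
        hb' _ _ g₁ (by rw [hg₁]; simp only [Category.assoc])]
      simp
  have h := hb' X x g' hg' g
  rw [hb1, MonObj.one_comp, MonObj.comp_one, eq_comm, mul_inv_eq_one, mul_inv_eq_iff_eq_mul] at h
  exact h

/-- In an extension by a group of multiplicative type of a group with connected fibres, the kernel is central. -/
theorem central_of_kernel' {E H U : Over S} [GrpObj E] [GrpObj H] [GrpObj U] (p : E ⟶ U) [IsMonHom p]
    (hp : MonoQuot.IsCov p.left) (i : H ⟶ E) [IsMonHom i] (hker : AlgGrp.IsKernel i p) (hH : SGA3x.IsMultTypeFT H)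
    (hU : ∀ s : S, _root_.IsConnected (U.hom.base ⁻¹' {s}) ∨
      ∀ (Y : Over S) (l : Y.left ⟶ Spec (S.residueField s)), l ≫ S.fromSpecResidueField s = Y.hom →
        ∀ (h : Y ⟶ H) (x : Y ⟶ E), (h ≫ i) * x = x * (h ≫ i)) (X : Over S) (h : X ⟶ H) (x : X ⟶ E) :
    (h ≫ i) * x = x * (h ≫ i) := by
  haveI : Mono i := ⟨fun {Z} a b e => hker.hom_ext e (toUnit_unique _ _)⟩
  refine central_of_normal' p hp i hH (fun X h x => ?_) (fun X a b hab h => ?_) hU X h x
  · have e : (x * (h ≫ i) * x⁻¹) ≫ p = toUnit X ≫ η[U] := by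
      rw [MonObj.mul_comp, MonObj.mul_comp, GrpObj.inv_comp, Category.assoc, hker.w, ← Category.assoc,
        toUnit_unique (h ≫ toUnit H) (toUnit X), ← Hom.one_def, _root_.mul_one, mul_inv_cancel]
    exact ⟨hker.lift _ _ e, hker.lift_fst _ _ _⟩
  · obtain ⟨k, rfl⟩ := (MonoQuot.kernel_iff p i hker X a b).1 hab
    have e : Commute (k ≫ i) (h ≫ i) := by
      show _ = _
      rw [← MonObj.mul_comp, ← MonObj.mul_comp, commute_of_isMultTypeFT hH]
    rw [mul_inv_rev, _root_.mul_assoc a (k ≫ i), e.eq]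
    group

theorem central_of_kernel {E H U : Over S} [GrpObj E] [GrpObj H] [GrpObj U] (p : E ⟶ U) [IsMonHom p]
    (hp : MonoQuot.IsCov p.left) (i : H ⟶ E) [IsMonHom i] (hker : AlgGrp.IsKernel i p) (hH : SGA3x.IsMultTypeFT H)
    (hU : ∀ s : S, _root_.IsConnected (U.hom.base ⁻¹' {s})) (X : Over S) (h : X ⟶ H) (x : X ⟶ E) :
    (h ≫ i) * x = x * (h ≫ i) :=
  central_of_kernel' p hp i hker hH (fun s => Or.inl (hU s)) X h x

/-- A normal subgroup of multiplicative type of a group with connected fibres is central. -/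
theorem central_of_normal_conn {G H : Over S} [GrpObj G] [GrpObj H] (i : H ⟶ G) [IsMonHom i] [Mono i]
    (hH : SGA3x.IsMultTypeFT H) (hn : AlgGrp.IsNormalHom i)
    (hG : ∀ s : S, _root_.IsConnected (G.hom.base ⁻¹' {s})) (X : Over S) (h : X ⟶ H) (x : X ⟶ G) :
    (h ≫ i) * x = x * (h ≫ i) := by
  haveI : IsMonHom (𝟙 G) := inferInstance
  exact central_of_normal (𝟙 G) (isCov (𝟙 G.left)) i hH
    (fun X h x => by obtain ⟨n, hn⟩ := hn X x h; exact ⟨n, hn.symm⟩)
    (fun X a b hab h => by rw [Category.comp_id, Category.comp_id] at hab; rw [hab]) hG X h x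

theorem isPullback_of_isQuotient {G H Q : Over S} [GrpObj G] [GrpObj H] [GrpObj Q] {i : H ⟶ G} {q : G ⟶ Q}
    [IsMonHom q] (hq : RedSub.IsQuotient i q) : MonoQuot.IsCov q.left ∧ AlgGrp.IsKernel i q := by
  obtain ⟨h1, h2, h3, h4⟩ := hq
  exact ⟨MonoQuot.IsCov.of_fppf q.left, isKernel_of_sq i q h4⟩

/-- The self-pullback of a homomorphism is its source times the kernel. -/
theorem isPullback_self {G H Q : Over S} [GrpObj G] [GrpObj H] [GrpObj Q] (i : H ⟶ G) (q : G ⟶ Q) [IsMonHom q]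
    (hker : AlgGrp.IsKernel i q) : IsPullback (fst G H) ((G ◁ i) ≫ μ[G]) q q := by
  have key : ∀ {X : Over S} (g : X ⟶ G) (h : X ⟶ H), lift g h ≫ (G ◁ i) ≫ μ[G] = g * (h ≫ i) := fun g h => by
    rw [lift_whiskerLeft_assoc, Hom.mul_def]
  have hw : fst G H ≫ q = ((G ◁ i) ≫ μ[G]) ≫ q := by
    rw [← Category.id_comp ((G ◁ i) ≫ μ[G]), ← lift_fst_snd, key]
    exact (MonoQuot.kernel_iff q i hker _ _ _).2 ⟨_, rfl⟩
  have ex : ∀ c : PullbackCone q q, ∃ h : c.pt ⟶ H, c.fst * (h ≫ i) = c.snd := fun c =>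
    (MonoQuot.kernel_iff q i hker _ _ _).1 c.condition
  choose l hl using ex
  refine ⟨⟨hw⟩, ⟨PullbackCone.IsLimit.mk _ (fun c => lift c.fst (l c)) (fun c => lift_fst _ _)
    (fun c => by rw [key, hl]) (fun c m h1 h2 => ?_)⟩⟩
  have e : m = lift (m ≫ fst G H) (m ≫ snd G H) := by ext <;> simp
  rw [e, key, h1, ← hl c, mul_right_inj] at h2
  rw [e, h1]
  congr 1
  exact hker.hom_ext h2 (toUnit_unique _ _)

/-- Kernels of surjective flat finitely presented homomorphisms with quasi-compact kernel. -/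
theorem quasiCompact_of_kernel {G H Q : Over S} [GrpObj G] [GrpObj H] [GrpObj Q] (i : H ⟶ G) (q : G ⟶ Q)
    [IsMonHom q] (hker : AlgGrp.IsKernel i q) [QuasiCompact H.hom] [Surjective q.left] [Flat q.left]
    [LocallyOfFinitePresentation q.left] : QuasiCompact q.left := by
  haveI : QuasiCompact (fst G H).left := inferInstanceAs (QuasiCompact (pullback.fst G.hom H.hom))
  exact quasiCompact_of_self q.left (fst G H).left ((G ◁ i) ≫ μ[G]).left
    ((isPullback_self i q hker).map (Over.forget S))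

/-- The preimage of a central subgroup of multiplicative type of the quotient by a central one. -/
theorem preimage_central {G H Q H' P : Over S} [GrpObj G] [GrpObj H] [GrpObj Q] [GrpObj H'] [GrpObj P]
    (i : H ⟶ G) [IsMonHom i] (hH : SGA3x.IsMultTypeFT H)
    (hc : ∀ (X : Over S) (h : X ⟶ H) (g : X ⟶ G), (h ≫ i) * g = g * (h ≫ i))
    (q : G ⟶ Q) [IsMonHom q] (hq : RedSub.IsQuotient i q) (hker : AlgGrp.IsKernel i q)
    (j : H' ⟶ Q) [IsMonHom j] [Mono j] (hH' : SGA3x.IsMultTypeFT H')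
    (hj : ∀ (X : Over S) (x : X ⟶ H') (g : X ⟶ Q), (x ≫ j) * g = g * (x ≫ j))
    (hconn : ∀ s : S, _root_.IsConnected (G.hom.base ⁻¹' {s}))
    (i' : P ⟶ G) [IsMonHom i'] (p : P ⟶ H') (hP : IsPullback i' p q j) :
    SGA3x.IsMultTypeFT P ∧ ∀ (X : Over S) (x : X ⟶ P) (g : X ⟶ G), (x ≫ i') * g = g * (x ≫ i') := by
  obtain ⟨hs, hf, hl, -⟩ := id hq
  have hcov : MonoQuot.IsCov q.left := MonoQuot.IsCov.of_fppf q.left
  have hcen : ∀ (X : Over S) (x : X ⟶ P) (g : X ⟶ G), (x ≫ i') * g = g * (x ≫ i') := fun X x g =>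
    central_lift q hcov i hker hH hc hH' j hj hconn X (x ≫ p) (x ≫ i')
      (by rw [Category.assoc, hP.w, Category.assoc]) g
  refine ⟨?_, hcen⟩
  haveI : Mono i' := ⟨fun {Z} a b e => hP.hom_ext e (by rw [← cancel_mono j, Category.assoc, Category.assoc, ← hP.w,
    reassoc_of% e])⟩
  haveI : IsMonHom (p ≫ j) := hP.w ▸ (inferInstance : IsMonHom (i' ≫ q))
  haveI : IsMonHom p := DiagRep.isMonHom_of_comp_mono p j
  haveI : Mono i := ⟨fun {Z} a b e => hker.hom_ext e (toUnit_unique _ _)⟩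
  let k : H ⟶ P := hP.lift i (toUnit H ≫ η[H']) (by rw [hker.w, Category.assoc, IsMonHom.one_hom j])
  haveI : IsMonHom (k ≫ i') := by rw [show k ≫ i' = i from hP.lift_fst _ _ _]; infer_instance
  haveI : IsMonHom k := DiagRep.isMonHom_of_comp_mono k i'
  have hk : AlgGrp.IsKernel k p := by
    refine IsPullback.of_right (h₁₂ := i') (h₂₂ := j) ?_ (hP.lift_snd _ _ _) hP
    rw [show k ≫ i' = i from hP.lift_fst _ _ _, IsMonHom.one_hom j]
    exact hker
  haveI : IsCommMonObj P := by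
    constructor
    show _ = _
    rw [MonObj.mul_eq_mul, MonObj.comp_mul, ← cancel_mono i', MonObj.mul_comp, MonObj.mul_comp,
      show (β_ P P).hom ≫ fst _ _ = snd _ _ by simp, show (β_ P P).hom ≫ snd _ _ = fst _ _ by simp]
    exact hcen _ (snd P P) _
  have sq := hP.map (Over.forget S)
  haveI : Surjective p.left := MorphismProperty.of_isPullback sq ‹_›
  haveI : Flat p.left := MorphismProperty.of_isPullback sq ‹_›
  haveI : LocallyOfFinitePresentation p.left := MorphismProperty.of_isPullback sq ‹_›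
  haveI := MultEq.isAffineHom_of_isMultTypeFT hH
  haveI : QuasiCompact p.left := quasiCompact_of_kernel k p hk
  exact isMultTypeFT_of_ext_comm P p k hk hH hH'

/-- The quotient by the reductive centre has trivial reductive centre. -/
theorem centre_trivial {G Z G' : Over S} [GrpObj G] [GrpObj Z] [GrpObj G']
    (hconn : ∀ s : S, _root_.IsConnected (G.hom.base ⁻¹' {s})) [LocallyOfFiniteType G.hom]
    (z : Z ⟶ G) [IsMonHom z] (hZ : SGA3x.IsMultTypeFT Z)
    (hzc : ∀ (X : Over S) (x : X ⟶ Z) (g : X ⟶ G), (x ≫ z) * g = g * (x ≫ z))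
    (hzu : ∀ (S' : Scheme.{u}) (f : S' ⟶ S) (H : Over S') [GrpObj H] (v : H ⟶ Red.bc f G) [IsMonHom v],
        SGA3x.IsMultTypeFT H →
        (∀ (X : Over S') (x : X ⟶ H) (g : X ⟶ Red.bc f G), (x ≫ v) * g = g * (x ≫ v)) →
        ∃ w : H ⟶ Red.bc f Z, w ≫ (Over.pullback f).map z = v)
    (q : G ⟶ G') [IsMonHom q] (hq : RedSub.IsQuotient z q)
    {S' : Scheme.{u}} (f : S' ⟶ S) {H : Over S'} [GrpObj H] (v : H ⟶ Red.bc f G') [IsMonHom v]
    (hH : SGA3x.IsMultTypeFT H)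
    (hv : ∀ (X : Over S') (x : X ⟶ H) (g : X ⟶ Red.bc f G'), (x ≫ v) * g = g * (x ≫ v)) :
    v = 1 := by
  obtain ⟨hs, hfl, hl, hsq⟩ := id hq
  let G₁ := Red.bc f G
  let Z₁ := Red.bc f Z
  let Q₁ := Red.bc f G'
  let q₁ : G₁ ⟶ Q₁ := (Over.pullback f).map q
  let z₁ : Z₁ ⟶ G₁ := (Over.pullback f).map z
  haveI : IsMonHom q₁ := DiagRep.isMonHom_bc_map f q
  haveI : IsMonHom z₁ := DiagRep.isMonHom_bc_map f z
  have hker : AlgGrp.IsKernel z₁ q₁ := isKernel_bc f (isKernel_of_sq z q hsq)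
  have sq₁ := PowEtCentralLib.isPullback_map_left f q
  haveI : Surjective q₁.left := MorphismProperty.of_isPullback sq₁ ‹_›
  haveI : Flat q₁.left := MorphismProperty.of_isPullback sq₁ ‹_›
  haveI : LocallyOfFinitePresentation q₁.left := MorphismProperty.of_isPullback sq₁ ‹_›
  have hcov : MonoQuot.IsCov q₁.left := MonoQuot.IsCov.of_fppf q₁.left
  have hZ₁ : SGA3x.IsMultTypeFT Z₁ := DescHom.isMultTypeFT_bc hZ f
  have hc₁ : ∀ (X : Over S') (h : X ⟶ Z₁) (g : X ⟶ G₁), (h ≫ z₁) * g = g * (h ≫ z₁) := by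
    intro X h g
    obtain ⟨h, rfl⟩ := (PowEtCentralLib.adjEquiv (G := Z) f X).surjective h
    obtain ⟨g, rfl⟩ := (PowEtCentralLib.adjEquiv (G := G) f X).surjective g
    rw [show PowEtCentralLib.adjEquiv (G := Z) f X h ≫ z₁ = PowEtCentralLib.adjEquiv (G := G) f X (h ≫ z) from
      ((Over.mapPullbackAdj f).homEquiv_naturality_right h z).symm, ← map_mul, ← map_mul, hzc]
  -- the preimage
  let P := pullback v q₁
  let a : P ⟶ H := pullback.fst v q₁
  let b : P ⟶ G₁ := pullback.snd v q₁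
  have hab : a ≫ v = b ≫ q₁ := pullback.condition
  have hcen : ∀ (X : Over S') (x : X ⟶ P) (g : X ⟶ G₁), (x ≫ b) * g = g * (x ≫ b) := fun X x g =>
    central_lift q₁ hcov z₁ hker hZ₁ hc₁ hH v hv (isConnected_bc f G hconn) X (x ≫ a) (x ≫ b)
      (by rw [Category.assoc, ← hab, Category.assoc]) g
  haveI : Mono (lift a b) := ⟨fun {W} r r' e => pullback.hom_ext
    (by simpa using congrArg (· ≫ fst H G₁) e) (by simpa using congrArg (· ≫ snd H G₁) e)⟩
  have hm : ∀ {X : Over S'} (x : X ⟶ H) (g : X ⟶ G₁) (e : x ≫ v = g ≫ q₁),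
      pullback.lift x g e ≫ lift a b = lift x g := fun x g e => by
    rw [comp_lift]; simp [a, b]
  obtain ⟨I, hI⟩ : ∃ _ : GrpObj P, IsMonHom a ∧ IsMonHom b := by
    obtain ⟨I, hI⟩ := SubDesc.exists_grpObj_of_mono (lift a b)
      (he := ⟨pullback.lift 1 1 (by rw [MonObj.one_comp, MonObj.one_comp]), by
        rw [hm]; ext <;> simp [MonObj.one_comp]⟩)
      (hm := ⟨pullback.lift ((fst P P ≫ a) * (snd P P ≫ a)) ((fst P P ≫ b) * (snd P P ≫ b)) (by
        simp only [MonObj.mul_comp, Category.assoc, hab]), by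
        rw [hm]; ext <;> simp [MonObj.mul_comp]⟩)
      (hn := ⟨pullback.lift a⁻¹ b⁻¹ (by rw [GrpObj.inv_comp, GrpObj.inv_comp, hab]), by
        rw [hm]; ext <;> simp [GrpObj.inv_comp]⟩)
    haveI := hI
    refine ⟨I, ?_, ?_⟩
    · rw [← lift_fst a b]; infer_instance
    · rw [← lift_snd a b]; infer_instance
  letI := I
  obtain ⟨ha, hb⟩ := hI
  haveI := ha; haveI := hb
  haveI : IsCommMonObj P := by
    constructor
    show _ = _
    rw [MonObj.mul_eq_mul, MonObj.comp_mul,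
      show (β_ P P).hom ≫ fst _ _ = snd _ _ by simp, show (β_ P P).hom ≫ snd _ _ = fst _ _ by simp]
    refine pullback.hom_ext ?_ ?_
    · show _ ≫ a = _ ≫ a
      rw [MonObj.mul_comp, MonObj.mul_comp, commute_of_isMultTypeFT hH]
    · show _ ≫ b = _ ≫ b
      rw [MonObj.mul_comp, MonObj.mul_comp]
      exact hcen _ (snd P P) _
  let k : Z₁ ⟶ P := pullback.lift (toUnit Z₁ ≫ η[H]) z₁ (by rw [hker.w, Category.assoc, IsMonHom.one_hom v])
  have hk : AlgGrp.IsKernel k a := by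
    refine IsPullback.of_right (h₁₂ := b) (h₂₂ := v) ?_ (pullback.lift_fst _ _ _) (IsPullback.of_hasPullback v q₁).flip
    rw [show k ≫ b = z₁ from pullback.lift_snd _ _ _, IsMonHom.one_hom v]
    exact hker
  haveI : Mono z₁ := ⟨fun {W} r r' e => hker.hom_ext e (toUnit_unique _ _)⟩
  haveI : IsMonHom k := by
    haveI : IsMonHom (k ≫ a) := by rw [show k ≫ a = toUnit Z₁ ≫ η[H] from pullback.lift_fst _ _ _]; infer_instance
    haveI : IsMonHom (k ≫ b) := by rw [show k ≫ b = z₁ from pullback.lift_snd _ _ _]; infer_instance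
    constructor
    · refine pullback.hom_ext ?_ ?_
      · show (η[Z₁] ≫ k) ≫ a = η[P] ≫ a
        rw [Category.assoc, IsMonHom.one_hom (k ≫ a), IsMonHom.one_hom a]
      · show (η[Z₁] ≫ k) ≫ b = η[P] ≫ b
        rw [Category.assoc, IsMonHom.one_hom (k ≫ b), IsMonHom.one_hom b]
    · refine pullback.hom_ext ?_ ?_
      · show (μ[Z₁] ≫ k) ≫ a = ((k ⊗ₘ k) ≫ μ[P]) ≫ a
        rw [Category.assoc, IsMonHom.mul_hom (k ≫ a), Category.assoc, IsMonHom.mul_hom a, tensorHom_comp_tensorHom_assoc]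
      · show (μ[Z₁] ≫ k) ≫ b = ((k ⊗ₘ k) ≫ μ[P]) ≫ b
        rw [Category.assoc, IsMonHom.mul_hom (k ≫ b), Category.assoc, IsMonHom.mul_hom b, tensorHom_comp_tensorHom_assoc]
  have sq := ((IsPullback.of_hasPullback v q₁).flip.map (Over.forget S'))
  haveI : Surjective a.left := MorphismProperty.of_isPullback sq ‹_›
  haveI : Flat a.left := MorphismProperty.of_isPullback sq ‹_›
  haveI : LocallyOfFinitePresentation a.left := MorphismProperty.of_isPullback sq ‹_›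
  haveI := MultEq.isAffineHom_of_isMultTypeFT hZ₁
  haveI : QuasiCompact a.left := quasiCompact_of_kernel k a hk
  obtain ⟨w, hw⟩ := hzu S' f P b (isMultTypeFT_of_ext_comm P a k hk hZ₁ hH) hcen
  haveI : Epi a := (hcov.of_isPullback sq.flip).epi_over
  rw [← cancel_epi a, hab, MonObj.comp_one, ← hw]
  show (w ≫ z₁) ≫ q₁ = 1
  rw [Category.assoc, hker.w, ← Category.assoc, toUnit_unique (w ≫ toUnit Z₁) (toUnit P), ← Hom.one_def]

end Groth.Agent.MultExt
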