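import Groth.Agent.RedCharZeroLib.TorusSplit
import Groth.Agent.UnipSplitLib.Translate
import Groth.Prelude

/-!
Hopf algebras of commutative affine groups; groups isomorphic to diagonalisable ones.
-/

set_option autoImplicit false
set_option backward.isDefEq.respectTransparency false
set_option maxHeartbeats 1000000

noncomputable section

universe u

open CategoryTheory CategoryTheory.Limits MonoidalCategory CartesianMonoidalCategory AlgebraicGeometry CoactBr WithConv
open scoped MonObj TensorProduct
open HopfRep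


attribute [-instance] CategoryTheory.Hom.commGroup
attribute [local instance] CoactBr.braidedAlgSpecOf

namespace Groth.Agent.MultExt

variable {k : Type u} [Field k]

/-- The Hopf algebra of a commutative affine algebraic group. -/
theorem exists_hopf (L : Over (Spec (CommRingCat.of k))) [GrpObj L] [IsCommMonObj L] [IsAffine L.left]
    [LocallyOfFiniteType L.hom] :
    ∃ (A : Type u) (_ : CommRing A) (_ : HopfAlgebra k A) (v : sp k A ≅ L),
      IsMonHom v.hom ∧ IsMonHom v.inv ∧ Algebra.FiniteType k A ∧ Coalgebra.IsCocomm k A := by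
  obtain ⟨H, ⟨e⟩⟩ : (hopfSpec (CommRingCat.of k)).essImage (Grp.mk L) :=
    (essImage_hopfSpec (R := CommRingCat.of k) (G := Grp.mk L)).2 inferInstance
  let A : Type u := H.unop.X
  letI : CommRing A := H.unop.commRing
  letI : HopfAlgebra k A := H.unop.hopfAlgebra
  let v : sp k A ≅ L := (Grp.forget _).mapIso e
  haveI : IsMonHom v.hom := e.hom.hom.isMonHom_hom
  haveI : IsMonHom v.inv := e.inv.hom.isMonHom_hom
  haveI : IsIso v.hom.left := (Over.forget _).map_isIso v.hom
  haveI : Algebra.FiniteType k A := by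
    haveI : LocallyOfFiniteType (sp k A).hom := by rw [← Over.w v.hom]; infer_instance
    have h : (algebraMap k A).FiniteType :=
      (HasRingHomProperty.Spec_iff (P := @LocallyOfFiniteType) (φ := CommRingCat.ofHom (algebraMap k A))).1
        (inferInstance : LocallyOfFiniteType (sp k A).hom)
    exact RingHom.finiteType_algebraMap.1 h
  haveI : IsCommMonObj (sp k A) := ⟨by
    rw [← cancel_mono v.hom, Category.assoc, IsMonHom.mul_hom, ← BraidedCategory.braiding_naturality_assoc,
      IsCommMonObj.mul_comm]⟩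
  haveI : Coalgebra.IsCocomm k A := by
    letI : CommGroup (sp k (A ⊗[k] A) ⟶ sp k A) := Hom.commGroup
    have h : toConv (Algebra.TensorProduct.includeLeft : A →ₐ[k] A ⊗[k] A) * toConv Algebra.TensorProduct.includeRight =
        toConv Algebra.TensorProduct.includeRight * toConv Algebra.TensorProduct.includeLeft := by
      refine WithConv.ext (pt_injective ?_)
      rw [← DiagRep.pt_mul_conv, ← DiagRep.pt_mul_conv]
      exact mul_comm _ _
    let σ : A ⊗[k] A →ₐ[k] A ⊗[k] A := (Algebra.TensorProduct.comm k A A).toAlgHom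
    have h1 : UnipSplit.push σ (toConv (Bialgebra.comulAlgHom k A)) = toConv (Bialgebra.comulAlgHom k A) := by
      rw [DiagRep.toConv_comul, UnipSplit.push_mul, h]
      congr 1 <;> exact WithConv.ext (AlgHom.ext fun a => by simp [UnipSplit.push, σ])
    refine ⟨LinearMap.ext fun a => ?_⟩
    exact DFunLike.congr_fun (congrArg ofConv h1) a
  exact ⟨A, inferInstance, inferInstance, v, inferInstance, inferInstance, inferInstance, inferInstance⟩

theorem isMultTypeFT_of_iso {S : Scheme.{u}} (H : Over S) [GrpObj H] {M : Type} [AddCommGroup M] (hM : AddGroup.FG M)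
    (e : H ≅ Red.DS S M) [IsMonHom e.hom] : SGA3x.IsMultTypeFT H := by
  refine ⟨S, 𝟙 S, inferInstance, inferInstance, fun V hV => ⟨V, hV.isCompact, by simp⟩, fun s => ?_⟩
  refine ⟨⊤, trivial, M, inferInstance, hM, ?_⟩
  obtain ⟨e2, he2⟩ := RedCharZeroLib.exists_DS_bc ((⊤ : S.Opens).ι ≫ 𝟙 S) M
  let j : Red.bc ((⊤ : S.Opens).ι ≫ 𝟙 S) H ≅ Red.DS _ M :=
    (Over.pullback ((⊤ : S.Opens).ι ≫ 𝟙 S)).mapIso e ≪≫ e2.symm
  haveI : IsMonHom ((Over.pullback ((⊤ : S.Opens).ι ≫ 𝟙 S)).mapIso e).hom :=
    @Functor.map.instIsMonHom _ _ _ _ _ _ (Over.pullback ((⊤ : S.Opens).ι ≫ 𝟙 S)) _ _ _ _ _ e.hom _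
  haveI := he2
  haveI : IsMonHom j.hom := by dsimp only [j, Iso.trans_hom, Iso.symm_hom]; infer_instance
  exact ⟨Grp.mkIso j (IsMonHom.one_hom j.hom) (IsMonHom.mul_hom j.hom)⟩

variable [IsAlgClosed k]

/-- A diagonalizable group of finite type is `D(M)`. -/
theorem exists_glBasis {A : Type u} [CommRing A] [HopfAlgebra k A] [Algebra.FiniteType k A]
    (h : IsDiagonalizable k A) :
    ∃ (M : Type) (_ : AddCommGroup M), AddGroup.FG M ∧ Nonempty (DiagRep.GLBasis k M A) := by
  classical
  let G := GroupLike k A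
  have hli : LinearIndependent k (GroupLike.val (R := k) (A := A)) := linearIndep_groupLikeVal
  have hr : Set.range (GroupLike.val (R := k) (A := A)) = {a : A | IsGroupLikeElem k a} :=
    Set.ext fun a => ⟨by rintro ⟨g, rfl⟩; exact g.isGroupLikeElem_val, fun ha => ⟨⟨a, ha⟩, rfl⟩⟩
  let b : Module.Basis G k A := Module.Basis.mk hli (by rw [hr]; exact h.ge)
  haveI : Group.FG G := by
    haveI : Algebra.FiniteType k (MonoidAlgebra k G) := by
      let φ : MonoidAlgebra k G ≃ₗ[k] A := (MonoidAlgebra.basis G k).equiv b (Equiv.refl G)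
      let ψ : MonoidAlgebra k G →ₐ[k] A := MonoidAlgebra.lift k A G (GroupLike.valMonoidHom k A)
      have hψ : ψ.toLinearMap = φ.toLinearMap := (MonoidAlgebra.basis G k).ext fun g => by
        simp only [φ, LinearEquiv.coe_coe, Module.Basis.equiv_apply]
        simp [ψ, b, Module.Basis.mk_apply]
        rfl
      have hbij : Function.Bijective ψ := by
        rw [show (ψ : MonoidAlgebra k G → A) = φ from funext fun z => LinearMap.congr_fun hψ z]
        exact φ.bijective
      exact Algebra.FiniteType.equiv (inferInstance : Algebra.FiniteType k A) (AlgEquiv.ofBijective ψ hbij).symm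
    exact MonoidAlgebra.finiteType_iff_group_fg.1 (inferInstance : Algebra.FiniteType k (MonoidAlgebra k G))
  haveI : Module.Finite ℤ (Additive G) := Module.Finite.iff_addGroup_fg.2 inferInstance
  obtain ⟨n, f, hf⟩ := Module.Finite.exists_fin' ℤ (Additive G)
  let M : Type := (Fin n → ℤ) ⧸ LinearMap.ker f
  let eA : Additive G ≃+ M := (f.quotKerEquivOfSurjective hf).symm.toAddEquiv
  let eq : G ≃ M := Additive.ofMul.trans eA.toEquiv
  have hb : ∀ a, b.reindex eq a = (Additive.toMul (eA.symm a)).val := fun a => by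
    rw [Module.Basis.reindex_apply, Module.Basis.mk_apply]
    rfl
  refine ⟨M, inferInstance, AddGroup.fg_iff.2 ?_, ⟨⟨b.reindex eq, ?_, fun x y => ?_, fun a => ?_, fun a => ?_⟩⟩⟩
  · exact AddGroup.fg_iff.1 (Module.Finite.iff_addGroup_fg.1 inferInstance)
  · rw [hb, map_zero]; rfl
  · rw [hb, hb, hb, map_add]; rfl
  · rw [hb]; exact (Additive.toMul (eA.symm a)).isGroupLikeElem_val.comul_eq_tmul_self
  · rw [hb]; exact (Additive.toMul (eA.symm a)).isGroupLikeElem_val.counit_eq_one

end Groth.Agent.MultExt
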