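import Groth.Agent.DiagHopfLib.Torsion
import Groth.Agent.DiagHopfLib.Family
import Mathlib.RingTheory.Valuation.LocalSubring
import Mathlib.RingTheory.Valuation.Integral
import Mathlib.RingTheory.Flat.FaithfullyFlat.Algebra
import Mathlib.RingTheory.Ideal.GoingDown

/-!
Valuation rings and points of flat algebras.
-/

set_option autoImplicit false
set_option backward.isDefEq.respectTransparency false

noncomputable section

universe u

open scoped TensorProduct

namespace Groth.Agent.MultExt

/-- A point in a valuation ring lifts along a faithfully flat algebra to an extension of the valuation ring. -/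
theorem exists_extension {C A L : Type u} [CommRing C] [CommRing A] [Algebra C A] [Field L] [Module.Flat C A]
    (hs : Function.Surjective (PrimeSpectrum.comap (algebraMap C A))) (V : ValuationSubring L) (y : C →+* L)
    (hy : ∀ c, y c ∈ V) :
    ∃ (L' : Type u) (_ : Field L') (ι : L →+* L') (V' : ValuationSubring L') (e : A →+* L'),
      (∀ a, e a ∈ V') ∧ e.comp (algebraMap C A) = ι.comp y ∧ ∀ z, ι z ∈ V' ↔ z ∈ V := by
  haveI : Module.FaithfullyFlat C A := Module.FaithfullyFlat.of_comap_surjective hs
  let yV : C →+* V := y.codRestrict V.toSubring hy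
  letI : Algebra C V := yV.toAlgebra
  let Q : Type u := V ⊗[C] A
  obtain ⟨⟨𝔔, h𝔔⟩, hq⟩ := PrimeSpectrum.comap_surjective_of_faithfullyFlat (A := V) (B := Q)
    ⟨IsLocalRing.maximalIdeal V, inferInstance⟩
  have hq' : 𝔔.comap (algebraMap V Q) = IsLocalRing.maximalIdeal V := congrArg PrimeSpectrum.asIdeal hq
  haveI := h𝔔
  haveI : 𝔔.LiesOver (IsLocalRing.maximalIdeal V) := ⟨hq'.symm⟩
  haveI : (⊥ : Ideal V).IsPrime := Ideal.isPrime_bot
  obtain ⟨P, hPle, hP, hPover⟩ := Ideal.exists_ideal_le_liesOver_of_le (R := V) (S := Q) (p := ⊥) 𝔔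
    (q := IsLocalRing.maximalIdeal V) bot_le
  haveI := hP
  let L' : Type u := FractionRing (Q ⧸ P)
  let π : Q →+* L' := (algebraMap (Q ⧸ P) L').comp (Ideal.Quotient.mk P)
  have hπ : ∀ z, π z = 0 ↔ z ∈ P := fun z => by
    rw [RingHom.comp_apply, map_eq_zero_iff _ (IsFractionRing.injective (Q ⧸ P) L'), Ideal.Quotient.eq_zero_iff_mem]
  have hinj : Function.Injective (π.comp (algebraMap V Q)) := by
    rw [injective_iff_map_eq_zero]
    intro z hz
    have h1 : z ∈ P.comap (algebraMap V Q) := (hπ _).1 hz
    rw [show P.comap (algebraMap V Q) = ⊥ from hPover.over.symm] at h1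
    exact h1
  let ι : L →+* L' := IsFractionRing.lift hinj
  have hι : ∀ z : V, ι (z : L) = π (algebraMap V Q z) := fun z => IsFractionRing.lift_algebraMap hinj z
  let loc : Localization.AtPrime 𝔔 →+* L' := IsLocalization.lift (M := 𝔔.primeCompl) (g := π) fun s =>
    isUnit_iff_ne_zero.2 fun h => s.2 (hPle ((hπ _).1 h))
  obtain ⟨V', hV', hlocal⟩ :=
    @IsLocalRing.exists_factor_valuationRing (Localization.AtPrime 𝔔) L' inferInstance inferInstance inferInstance loc
  haveI := hlocal
  have hloc : ∀ z, loc (algebraMap Q _ z) = π z := fun z => IsLocalization.lift_eq _ z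
  refine ⟨L', inferInstance, ι, V', π.comp (Algebra.TensorProduct.includeRight : A →ₐ[C] Q).toRingHom,
    fun a => ?_, RingHom.ext fun c => ?_, fun z => ⟨fun hz => ?_, fun hz => ?_⟩⟩
  · rw [RingHom.comp_apply, ← hloc]
    exact hV' _
  · show π ((Algebra.TensorProduct.includeRight : A →ₐ[C] Q) (algebraMap C A c)) = ι (y c)
    rw [AlgHom.commutes, Algebra.TensorProduct.algebraMap_apply]
    exact (hι (yV c)).symm
  · by_contra hzV
    have hz0 : z ≠ 0 := fun h => hzV (h ▸ zero_mem V)
    have hinv : z⁻¹ ∈ V := (V.mem_or_inv_mem z).resolve_left hzV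
    let w : V := ⟨z⁻¹, hinv⟩
    have hw : w ∈ IsLocalRing.maximalIdeal V := by
      rw [IsLocalRing.mem_maximalIdeal, mem_nonunits_iff]
      intro hu
      obtain ⟨u, hu'⟩ := hu.exists_right_inv
      refine hzV ?_
      have h1 : z⁻¹ * (u : L) = 1 := congrArg Subtype.val hu'
      have h2 : z = (u : L) := by
        rw [inv_mul_eq_iff_eq_mul₀ hz0, mul_one] at h1
        exact h1.symm
      rw [h2]
      exact u.2
    have hwQ : algebraMap V Q w ∈ 𝔔 := by
      rw [← hq'] at hw
      exact hw
    have hnu : ¬ IsUnit (algebraMap Q (Localization.AtPrime 𝔔) (algebraMap V Q w)) := fun h =>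
      (IsLocalization.AtPrime.isUnit_to_map_iff (Localization.AtPrime 𝔔) 𝔔 _).1 h hwQ
    refine hnu (IsUnit.of_map (loc.codRestrict V'.toSubring hV') _ (isUnit_iff_exists_inv.2 ⟨⟨ι z, hz⟩, ?_⟩))
    refine Subtype.ext ?_
    show loc _ * ι z = 1
    rw [hloc, ← hι, ← map_mul, show ((w : V) : L) * z = 1 from inv_mul_cancel₀ hz0, map_one]
  · rw [show z = ((⟨z, hz⟩ : V) : L) from rfl, hι, ← hloc]
    exact hV' _

/-- Powers detect membership in a valuation ring. -/
theorem mem_of_pow_mem {L : Type u} [Field L] (V : ValuationSubring L) {x : L} {n : ℕ} (hn : n ≠ 0)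
    (h : x ^ n ∈ V) : x ∈ V := by
  rcases V.mem_or_inv_mem x with hx | hx
  · exact hx
  obtain ⟨m, rfl⟩ := Nat.exists_eq_succ_of_ne_zero hn
  rcases eq_or_ne x 0 with rfl | h0
  · exact zero_mem V
  have h1 := mul_mem h (pow_mem hx m)
  rwa [pow_succ', inv_pow, mul_assoc, mul_inv_cancel₀ (pow_ne_zero m h0), mul_one] at h1

open Groth.Agent.TorusField (Split)

variable {R : Type u} [CommRing R]

/-- A point of a group of multiplicative type lies in a valuation ring if its power does. -/
theorem mem_of_powConv_mem {D : Type u} [CommRing D] [HopfAlgebra R D] (hD : SGA3b.IsMultType R D) {L : Type u}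
    [Field L] [Algebra R L] (V : ValuationSubring L) (hV : ∀ r, algebraMap R L r ∈ V) (h : D →ₐ[R] L) {n : ℕ}
    (hn : n ≠ 0) (hh : ∀ d, h (SGA3b.powConv R D n d) ∈ V) (d : D) : h d ∈ V := by
  classical
  obtain ⟨κ, _, S, _, _, N, _, hff, hE⟩ := DiagHopf.exists_family_split hD
  haveI := hff
  obtain ⟨L', _, ι, V', e, heV, he, hι⟩ := exists_extension (C := R) (A := Π i, S i)
    PrimeSpectrum.comap_surjective_of_faithfullyFlat V (algebraMap R L) hV
  letI : Algebra R L' := (ι.comp (algebraMap R L)).toAlgebra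
  obtain ⟨j, hj⟩ : ∃ j, e (Pi.single j 1) ≠ 0 := by
    by_contra hc
    push_neg at hc
    have h1 : ∑ j, e (Pi.single j 1) = 1 := by
      rw [← map_sum, ← map_one e]
      exact congrArg e (Finset.univ_sum_single (1 : Π i, S i))
    rw [Finset.sum_eq_zero fun i _ => hc i] at h1
    exact zero_ne_one h1
  have hj1 : e (Pi.single j 1) = 1 := by
    refine mul_left_cancel₀ hj ?_
    rw [← map_mul, ← Pi.single_mul, mul_one, mul_one]
  let ej : S j →+* L' :=
    { toFun := fun s => e (Pi.single j s)
      map_one' := hj1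
      map_mul' := fun a b => by rw [← map_mul, ← Pi.single_mul]
      map_zero' := by rw [Pi.single_zero, map_zero]
      map_add' := fun a b => by rw [← map_add, ← Pi.single_add] }
  let ejA : S j →ₐ[R] L' :=
    { ej with
      commutes' := fun r => by
        show e (Pi.single j (algebraMap R (S j) r)) = ι (algebraMap R L r)
        rw [← RingHom.comp_apply ι, ← he, RingHom.comp_apply,
          show (Pi.single j (algebraMap R (S j) r) : Π i, S i) = algebraMap R (Π i, S i) r * Pi.single j 1 from by
            funext i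
            rcases eq_or_ne i j with rfl | hij
            · simp
            · simp [hij],
          map_mul, hj1, mul_one] }
  let hL : D →ₐ[R] L' := { ι.comp h.toRingHom with
    commutes' := fun r => congrArg ι (h.commutes r) }
  let X : S j ⊗[R] D →ₐ[R] L' := Algebra.TensorProduct.lift ejA hL fun _ _ => Commute.all _ _
  obtain ⟨E⟩ := hE j
  have hXp : ∀ z, X (Algebra.TensorProduct.map (AlgHom.id (S j) (S j)) (SGA3b.powConv R D n) z) ∈ V' := by
    intro z
    induction z using TensorProduct.induction_on with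
    | zero => rw [map_zero, map_zero]; exact zero_mem V'
    | add a b ha hb => rw [map_add, map_add]; exact add_mem ha hb
    | tmul s a =>
      simp only [Algebra.TensorProduct.map_tmul, AlgHom.id_apply, X, Algebra.TensorProduct.lift_tmul]
      exact mul_mem (heV _) ((hι _).2 (hh a))
  have hXe : ∀ m, X (E.e m) ∈ V' := fun m => mem_of_pow_mem V' hn (by
    rw [← map_pow, ← DiagHopf.map_powConv_gl n (E.gl m)]
    exact hXp _)
  have hX : ∀ z, X z ∈ V' := by
    intro z
    have hz : z ∈ Submodule.span (S j) (Set.range E.e) := E.e.span_eq ▸ Submodule.mem_top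
    induction hz using Submodule.span_induction with
    | mem y hy => obtain ⟨m, rfl⟩ := hy; exact hXe m
    | zero => rw [map_zero]; exact zero_mem V'
    | add a b _ _ ha hb => rw [map_add]; exact add_mem ha hb
    | smul s a _ ha =>
      rw [Algebra.smul_def, map_mul, Algebra.TensorProduct.algebraMap_apply, Algebra.algebraMap_self,
        RingHom.id_apply]
      refine mul_mem ?_ ha
      simp only [X, Algebra.TensorProduct.lift_tmul, map_one, mul_one]
      exact heV _
  have hd := hX ((1 : S j) ⊗ₜ[R] d)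
  simp only [X, Algebra.TensorProduct.lift_tmul, map_one, one_mul] at hd
  exact (hι _).1 hd

/-- An algebra all of whose valued points are integral is integral. -/
theorem isIntegral_of_valuations {T : Type u} [CommRing T] [Algebra R T]
    (h : ∀ (L : Type u) [Field L] [Algebra R L] (V : ValuationSubring L), (∀ r, algebraMap R L r ∈ V) →
      ∀ x : T →ₐ[R] L, ∀ t, x t ∈ V) : Algebra.IsIntegral R T := by
  refine ⟨fun b => ?_⟩
  by_contra hb
  let S : Submonoid T :=
    { carrier := {t | ∃ f : Polynomial R, f.Monic ∧ Polynomial.aeval b f = t}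
      one_mem' := ⟨1, Polynomial.monic_one, map_one _⟩
      mul_mem' := by
        rintro _ _ ⟨f, hf, rfl⟩ ⟨g, hg, rfl⟩
        exact ⟨f * g, hf.mul hg, map_mul _ _ _⟩ }
  have hd : Disjoint ((⊥ : Ideal T) : Set T) (S : Set T) := by
    rw [Set.disjoint_left]
    rintro x hx ⟨f, hf, hfx⟩
    exact hb ⟨f, hf, hfx.trans ((Submodule.mem_bot _).1 hx)⟩
  obtain ⟨P, hP, -, hPS⟩ := Ideal.exists_le_prime_disjoint ⊥ S hd
  haveI := hP
  let L : Type u := FractionRing (T ⧸ P)
  let x : T →ₐ[R] L := (IsScalarTower.toAlgHom R (T ⧸ P) L).comp (Ideal.Quotient.mkₐ R P)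
  let s : Set L := Set.range (algebraMap R L)
  have hxmem : x b ∈ (integralClosure (Subring.closure s) L).toSubring := by
    rw [← iInf_valuationSubring_superset, Subring.mem_iInf]
    exact fun V => h L V.1 (fun r => V.2 ⟨r, rfl⟩) x b
  have hint : IsIntegral R (x b) := by
    obtain ⟨f, hf, hf0⟩ : IsIntegral (Subring.closure s) (x b) := hxmem
    let φ : R →+* Subring.closure s := (algebraMap R L).codRestrict _ fun r => Subring.subset_closure ⟨r, rfl⟩
    have hφ : Function.Surjective φ := by
      rintro ⟨z, hz⟩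
      have h1 : Subring.closure s ≤ (algebraMap R L).range :=
        Subring.closure_le.2 fun w hw => RingHom.mem_range.2 hw
      obtain ⟨r, hr⟩ := h1 hz
      exact ⟨r, Subtype.ext hr⟩
    obtain ⟨g, hg, -, hgm⟩ := Polynomial.lifts_and_degree_eq_and_monic
      ((Polynomial.mem_lifts _).2 (Polynomial.map_surjective φ hφ f)) hf
    exact ⟨g, hgm, by rw [← hg, Polynomial.eval₂_map] at hf0; exact hf0⟩
  obtain ⟨f, hf, hf0⟩ := hint
  have h1 : x (Polynomial.aeval b f) = 0 := by rw [← Polynomial.aeval_algHom_apply]; exact hf0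
  rw [AlgHom.comp_apply, IsScalarTower.coe_toAlgHom', map_eq_zero_iff _ (IsFractionRing.injective (T ⧸ P) L)] at h1
  exact Set.disjoint_left.1 hPS (Ideal.Quotient.eq_zero_iff_mem.1 h1) ⟨f, hf, rfl⟩

/-- Integral elements lie in valuation rings containing the base. -/
theorem mem_of_isIntegral {L : Type u} [Field L] [Algebra R L] (V : ValuationSubring L)
    (hV : ∀ r, algebraMap R L r ∈ V) {z : L} (hz : IsIntegral R z) : z ∈ V := by
  have h1 : z ∈ (integralClosure (Subring.closure (Set.range (algebraMap R L))) L).toSubring := by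
    obtain ⟨f, hf, hf0⟩ := hz
    refine ⟨f.map ((algebraMap R L).codRestrict _ fun r => Subring.subset_closure ⟨r, rfl⟩), hf.map _, ?_⟩
    rw [Polynomial.eval₂_map]
    exact hf0
  rw [← iInf_valuationSubring_superset, Subring.mem_iInf] at h1
  exact h1 ⟨V, by rintro _ ⟨r, rfl⟩; exact hV r⟩

end Groth.Agent.MultExt
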